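import Cfsg.Agent.Lib.Invol.AbelianFix.Derived
import Cfsg.Agent.Lib.PLocal.Section
import Cfsg.Agent.Lib.StructC.BurnsideBasis

/-!
# Free abelian action centralising the fixed points, on a `p`-group
-/

set_option autoImplicit false

namespace CfsgLib.Invol.AbelianFix

open Subgroup
open scoped commutatorElement

universe u

/-- Normalisers act on characteristic subgroups. -/
theorem normalizer_le_map_characteristic {X : Type u} [Group X] {K : Subgroup X} (C : Subgroup K)
    [hC : C.Characteristic] :
    normalizer (K : Set X) ≤ normalizer ((C.map K.subtype : Subgroup X) : Set X) := by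
  intro g hg
  rw [mem_normalizer_iff_map_conj_eq, map_map]
  conv_rhs => rw [← characteristic_iff_map_eq.1 hC (K.normalizerMonoidHom ⟨g, hg⟩), map_map]
  rfl

section

variable {X : Type u} [Group X] [Finite X]

theorem centralizes_of_fix_top {p q : ℕ} [Fact p.Prime] (hq : q.Prime) {U E : Subgroup X}
    [U.Normal] (hU : IsPGroup p U) {a : X} (haE : a ∈ normalizer (E : Set X)) (haq : a ^ q = 1)
    (hEp : (Nat.card E).Coprime p) (hqU : ¬ q ∣ Nat.card U) (hqE : ¬ q ∣ Nat.card E)
    (hc : ∀ x ∈ E, ∀ y ∈ E, ∀ u ∈ U, Commute ⁅x, y⁆ u) (hfull : ⁅E, zpowers a⁆ = E)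
    (hfix : ∀ u ∈ U, Commute a u → ∀ x ∈ E, Commute x u) :
    E ≤ centralizer (U : Set X) := by
  have hp : p.Prime := Fact.out
  let Φ := frattini U
  let V := U ⧸ Φ
  have hcommV : ∀ x y : V, x * y = y * x := by
    intro x y
    induction x using QuotientGroup.induction_on with
    | _ x =>
      induction y using QuotientGroup.induction_on with
      | _ y =>
        rw [← QuotientGroup.mk_mul, ← QuotientGroup.mk_mul]
        refine QuotientGroup.eq.2 ?_
        have h := CfsgLib.StructC.comm_mem_frattini hU y x
        simpa [mul_assoc] using h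
  let _ : CommGroup V := { (inferInstance : Group V) with mul_comm := hcommV }
  have hVp : ∀ v : V, v ^ p = 1 := by
    intro v
    induction v using QuotientGroup.induction_on with
    | _ u => exact (QuotientGroup.eq_one_iff (u ^ p)).2 (CfsgLib.StructC.pow_mem_frattini hU u)
  let f : X →* MulAut V :=
    { toFun := fun x => QuotientGroup.congr Φ Φ (MulAut.conjNormal x)
        (characteristic_iff_map_eq.1 (inferInstance : Φ.Characteristic) _)
      map_one' := by
        refine MulEquiv.ext fun v => ?_
        induction v using QuotientGroup.induction_on with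
        | _ u => simp
      map_mul' := fun x y => by
        refine MulEquiv.ext fun v => ?_
        induction v using QuotientGroup.induction_on with
        | _ u => simp only [map_mul]; rfl }
  have hf : ∀ (x : X) (u : U), f x (QuotientGroup.mk u) = QuotientGroup.mk (MulAut.conjNormal x u) :=
    fun x u => rfl
  let B := zpowers a
  have hB : B ≤ normalizer (E : Set X) := zpowers_le.2 haE
  have hordq : orderOf a ∣ q := orderOf_dvd_of_pow_eq_one haq
  have hBfix : ∀ v : V, f a v = v → ∃ u : U, QuotientGroup.mk u = v ∧ Commute a (u : X) := by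
    intro v
    induction v using QuotientGroup.induction_on with
    | _ u =>
      intro hv
      have : (Φ.map U.subtype).Normal := inferInstance
      have hn : ∀ H : Subgroup X, H.Normal → B ≤ normalizer (H : Set X) := fun H hH => by
        rw [normalizer_eq_top]; exact le_top
      have hcop : (Nat.card B).Coprime (Nat.card U) := by
        rw [Nat.card_zpowers]
        exact (hq.coprime_iff_not_dvd.2 hqU).coprime_dvd_left hordq
      have hmemU : ∀ b ∈ B, f b (QuotientGroup.mk u) = QuotientGroup.mk u := by
        intro b hb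
        have hle : B ≤ ((MulAction.stabilizer (MulAut V) (QuotientGroup.mk u : V))).comap f :=
          zpowers_le.2 hv
        exact hle hb
      obtain ⟨n, hn', hc'⟩ := CfsgLib.Coprime.exists_mem_centralizer_of_coset (hn U inferInstance)
        (hn _ this) (map_subtype_le Φ) hcop (Or.inl inferInstance) u.2 fun b hb => by
          have h1 := QuotientGroup.eq.1 ((hf b u).symm.trans (hmemU b hb))
          have h2 := (inferInstance : Φ.Normal).conj_mem _ h1 ((MulAut.conjNormal b u)⁻¹ * u)⁻¹
          refine ⟨((MulAut.conjNormal b u)⁻¹ * u)⁻¹, inv_mem h1, ?_⟩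
          simp [mul_assoc]
      obtain ⟨n₀, hn₀, rfl⟩ := mem_map.1 hn'
      refine ⟨u * n₀, ?_, mem_centralizer_zpowers.1 hc'⟩
      rw [QuotientGroup.mk_mul, (QuotientGroup.eq_one_iff n₀).2 hn₀, mul_one]
  let E₁ := E.map f
  have : IsMulCommutative E₁ := by
    refine ⟨⟨fun x y => ?_⟩⟩
    obtain ⟨x₀, hx₀, ex⟩ := mem_map.1 x.2
    obtain ⟨y₀, hy₀, ey⟩ := mem_map.1 y.2
    refine Subtype.ext ?_
    show (x : MulAut V) * y = y * x
    rw [← ex, ← ey]
    refine (commutatorElement_eq_one_iff_commute.1 ?_).eq
    rw [← map_commutatorElement]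
    refine MulEquiv.ext fun v => ?_
    induction v using QuotientGroup.induction_on with
    | _ u =>
      rw [hf, MulAut.one_apply]
      congr 1
      exact Subtype.ext (by
        rw [MulAut.conjNormal_apply, (hc x₀ hx₀ y₀ hy₀ u u.2).eq, mul_inv_cancel_right])
  have hE₁p : (Nat.card E₁).Coprime p := hEp.coprime_dvd_left (card_map_dvd E f)
  have hcop₁ : (Nat.card (zpowers (f a))).Coprime (Nat.card E₁) := by
    rw [Nat.card_zpowers]
    exact ((hq.coprime_iff_not_dvd.2 hqE).coprime_dvd_left
      ((orderOf_map_dvd f a).trans hordq)).coprime_dvd_right (card_map_dvd E f)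
  have haE₁ : f a ∈ normalizer (E₁ : Set (MulAut V)) := le_normalizer_map f (mem_map_of_mem f haE)
  have hfree : ∀ e ∈ E₁, Commute (f a) e → e = 1 := by
    intro e he hce
    have hab : IsMulCommutative E₁ := inferInstance
    have hbot := CfsgLib.Coprime.commutator_inf_centralizer_eq_bot hab (zpowers_le.2 haE₁) hcop₁
    have hEfull : ⁅E₁, zpowers (f a)⁆ = E₁ := by
      rw [← MonoidHom.map_zpowers, ← map_commutator, hfull]
    have : e ∈ ⁅E₁, zpowers (f a)⁆ ⊓ centralizer (zpowers (f a) : Set (MulAut V)) :=
      ⟨hEfull.symm ▸ he, mem_centralizer_zpowers.2 hce⟩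
    rw [hbot] at this
    exact mem_bot.1 this
  intro x hx
  have hfx : f x = 1 := eq_one_of_fix hp hq hVp hE₁p (by rw [← map_pow, haq, map_one]) haE₁ hfree
    (fun e he v hv => by
      obtain ⟨e₀, he₀, rfl⟩ := mem_map.1 he
      obtain ⟨u, rfl, hu⟩ := hBfix v hv
      rw [hf]
      congr 1
      exact Subtype.ext (by
        rw [MulAut.conjNormal_apply, (hfix u u.2 hu e₀ he₀).eq, mul_inv_cancel_right]))
    (mem_map_of_mem f hx)
  refine CfsgLib.PLocal.centralizes_of_trivial_on_frattini_quotient hU
    (by rw [normalizer_eq_top]; trivial)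
    (hEp.coprime_dvd_left (orderOf_dvd_natCard E hx)) fun k hk => ?_
  have hfx' : f x⁻¹ = 1 := by rw [map_inv, hfx, inv_one]
  have h1 := DFunLike.congr_fun hfx' (QuotientGroup.mk (⟨k, hk⟩ : U) : V)
  rw [hf, MulAut.one_apply, QuotientGroup.eq] at h1
  refine ⟨_, inv_mem h1, ?_⟩
  simp [MulAut.conjNormal_apply, mul_assoc]

end

end CfsgLib.Invol.AbelianFix
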