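import Cfsg.Agent.Lib.Invol.AbelianFix.Image
import Cfsg.Agent.Lib.Coprime.Sylow

/-!
# `C_q × C_q` acting coprimely with abelian centralisers: derived subgroups are nilpotent
-/

set_option autoImplicit false

namespace CfsgLib.Invol.AbelianFix

open Subgroup
open scoped commutatorElement

universe u

variable {X : Type u} [Group X]

/-- `A ≅ C_q × C_q` acts coprimely on `G` with abelian centralisers. -/
structure Act0 (q : ℕ) (A G : Subgroup X) : Prop where
  prime : q.Prime
  card : Nat.card A = q ^ 2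
  comm : IsMulCommutative A
  expq : ∀ a ∈ A, a ^ q = 1
  act : A ≤ normalizer (G : Set X)
  cop : ¬ q ∣ Nat.card G
  ab : ∀ a ∈ A, a ≠ 1 → ∀ g ∈ G, ∀ h ∈ G, Commute a g → Commute a h → Commute g h

/-- `Act0`, with no fixed points. -/
structure Act (q : ℕ) (A G : Subgroup X) : Prop extends Act0 q A G where
  fix : G ⊓ centralizer (A : Set X) = ⊥

theorem centralizer_zpowers (a : X) :
    centralizer (zpowers a : Set X) = centralizer ({a} : Set X) := by
  rw [zpowers_eq_closure, centralizer_closure]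

theorem mem_centralizer_zpowers {a g : X} : g ∈ centralizer (zpowers a : Set X) ↔ Commute a g := by
  rw [centralizer_zpowers, mem_centralizer_singleton_iff]
  exact ⟨Eq.symm, Eq.symm⟩

theorem Act0.not_isCyclic {q : ℕ} {A G : Subgroup X} (h : Act0 q A G) : ¬ IsCyclic A := by
  intro hc
  obtain ⟨g, hg⟩ := hc.exists_generator
  have h1 := orderOf_eq_card_of_forall_mem_zpowers hg
  have h2 : orderOf g ∣ q := orderOf_dvd_of_pow_eq_one (Subtype.ext (h.expq g g.2))
  rw [h1, h.card] at h2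
  have := Nat.le_of_dvd h.prime.pos h2
  have := h.prime.two_le
  nlinarith

variable [Finite X]

theorem Act0.coprime {q : ℕ} {A G : Subgroup X} (h : Act0 q A G) :
    (Nat.card A).Coprime (Nat.card G) := by
  rw [h.card]
  exact (h.prime.coprime_iff_not_dvd.2 h.cop).pow_left 2

theorem Act0.solv {q : ℕ} {A G : Subgroup X} (h : Act0 q A G) :
    Group.IsSolvable A ∨ Group.IsSolvable G := by
  have := h.comm
  exact Or.inl (Group.isSolvable_of_comm fun x y => mul_comm' x y)

theorem Act0.mono {q : ℕ} {A G H : Subgroup X} (h : Act0 q A G) (hHG : H ≤ G)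
    (hA : A ≤ normalizer (H : Set X)) : Act0 q A H where
  prime := h.prime
  card := h.card
  comm := h.comm
  expq := h.expq
  act := hA
  cop := fun hd => h.cop (hd.trans (card_dvd_of_le hHG))
  ab := fun a ha ha1 g hg k hk => h.ab a ha ha1 g (hHG hg) k (hHG hk)

theorem Act.mono {q : ℕ} {A G H : Subgroup X} (h : Act q A G) (hHG : H ≤ G)
    (hA : A ≤ normalizer (H : Set X)) : Act q A H where
  toAct0 := h.toAct0.mono hHG hA
  fix := le_bot_iff.1 ((inf_le_inf_right _ hHG).trans h.fix.le)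

theorem Act0.coprime_zpowers {q : ℕ} {A G : Subgroup X} (h : Act0 q A G) {a : X} (ha : a ∈ A) :
    (Nat.card (zpowers a)).Coprime (Nat.card G) :=
  h.coprime.coprime_dvd_left (card_dvd_of_le (zpowers_le.2 ha))

/-- Generation by the centralisers. -/
theorem Act0.iSup_eq {q : ℕ} {A G : Subgroup X} (h : Act0 q A G) :
    (⨆ a : {a : X // a ∈ A ∧ a ≠ 1}, G ⊓ centralizer ({(a : X)} : Set X)) = G :=
  CfsgLib.Coprime.iSup_centralizer_eq h.comm h.not_isCyclic h.act h.coprime

/-- Passage to a homomorphic image. -/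
theorem Act0.map {Y : Type*} [Group Y] {q : ℕ} {A G : Subgroup X} (h : Act0 q A G) (f : X →* Y)
    (hA : A ⊓ f.ker = ⊥) : Act0 q (A.map f) (G.map f) where
  prime := h.prime
  card := by
    rw [← h.card]
    refine (Nat.card_congr (Equiv.ofBijective (fun a : A => (⟨f a, mem_map_of_mem f a.2⟩ : A.map f))
      ⟨fun a b e => ?_, fun y => ?_⟩)).symm
    · have e' : f a = f b := congrArg Subtype.val e
      have : (a : X) * (b : X)⁻¹ ∈ A ⊓ f.ker := mem_inf.2 ⟨mul_mem a.2 (inv_mem b.2), by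
        rw [MonoidHom.mem_ker, map_mul, map_inv, e', mul_inv_cancel]⟩
      rw [hA, mem_bot] at this
      exact Subtype.ext (mul_inv_eq_one.1 this)
    · obtain ⟨x, hx, e⟩ := mem_map.1 y.2
      exact ⟨⟨x, hx⟩, Subtype.ext e⟩
  comm := by
    have := h.comm
    refine ⟨⟨fun y z => ?_⟩⟩
    obtain ⟨a, ha, ea⟩ := mem_map.1 y.2
    obtain ⟨b, hb, eb⟩ := mem_map.1 z.2
    refine Subtype.ext ?_
    show (y : Y) * z = z * y
    rw [← ea, ← eb, ← map_mul, ← map_mul]
    exact congrArg f (congrArg Subtype.val (mul_comm' (⟨a, ha⟩ : A) ⟨b, hb⟩))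
  expq := by
    rintro _ ⟨a, ha, rfl⟩
    rw [← map_pow, h.expq a ha, map_one]
  act := (map_mono h.act).trans (le_normalizer_map f)
  cop := fun hd => h.cop (hd.trans (Subgroup.card_map_dvd G f))
  ab := by
    rintro _ ⟨a, ha, rfl⟩ ha1 g hg k hk hag hak
    have key : ∀ y ∈ G.map f, Commute (f a) y → ∃ x ∈ G, Commute a x ∧ f x = y := by
      intro y hy hc
      have := CfsgLib.Coprime.map_inf_centralizer f (A := zpowers a)
        ((zpowers_le.2 ha).trans h.act) (h.coprime_zpowers ha) (Or.inl inferInstance)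
      have hy' : y ∈ (G.map f ⊓ centralizer ((zpowers a).map f : Set Y)) := ⟨hy, by
        rw [MonoidHom.map_zpowers]; exact mem_centralizer_zpowers.2 hc⟩
      rw [← this] at hy'
      obtain ⟨x, hx, e⟩ := mem_map.1 hy'
      exact ⟨x, hx.1, mem_centralizer_zpowers.1 hx.2, e⟩
    obtain ⟨x, hx, hax, rfl⟩ := key g hg hag
    obtain ⟨y, hy, hay, rfl⟩ := key k hk hak
    exact (h.ab a ha (fun e => ha1 (by rw [e, map_one])) x hx y hy hax hay).map f

theorem Act.map {Y : Type*} [Group Y] {q : ℕ} {A G : Subgroup X} (h : Act q A G) (f : X →* Y)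
    (hA : A ⊓ f.ker = ⊥) : Act q (A.map f) (G.map f) where
  toAct0 := h.toAct0.map f hA
  fix := by
    rw [← CfsgLib.Coprime.map_inf_centralizer f h.act h.coprime h.solv, h.fix, Subgroup.map_bot]

theorem Act0.subgroupOf {q : ℕ} {A G : Subgroup X} (h : Act0 q A G) (N : Subgroup X) (hA : A ≤ N)
    (hG : G ≤ N) : Act0 q (A.subgroupOf N) (G.subgroupOf N) where
  prime := h.prime
  card := by rw [Nat.card_congr (subgroupOfEquivOfLe hA).toEquiv, h.card]
  comm := by
    have := h.comm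
    refine ⟨⟨fun x y => Subtype.ext (Subtype.ext ?_)⟩⟩
    have := congrArg Subtype.val (mul_comm' (⟨((x : N) : X), x.2⟩ : A) ⟨((y : N) : X), y.2⟩)
    exact this
  expq := fun a ha => Subtype.ext (h.expq _ ha)
  act := fun a ha => mem_normalizer_iff.2 fun g => mem_normalizer_iff.1 (h.act ha) (g : X)
  cop := by rw [Nat.card_congr (subgroupOfEquivOfLe hG).toEquiv]; exact h.cop
  ab := fun a ha ha1 g hg k hk hag hak => Subtype.ext (h.ab a ha (fun e => ha1 (Subtype.ext e)) g hg k
    hk (congrArg Subtype.val hag) (congrArg Subtype.val hak)).eq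

theorem Act.subgroupOf {q : ℕ} {A G : Subgroup X} (h : Act q A G) (N : Subgroup X) (hA : A ≤ N)
    (hG : G ≤ N) : Act q (A.subgroupOf N) (G.subgroupOf N) where
  toAct0 := h.toAct0.subgroupOf N hA hG
  fix := eq_bot_iff.2 fun g hg => mem_bot.2 (Subtype.ext (mem_bot.1 (h.fix.le
    ⟨hg.1, mem_centralizer_iff.2 fun a ha =>
      congrArg Subtype.val (mem_centralizer_iff.1 hg.2 ⟨a, hA ha⟩ ha)⟩)))

theorem aux_comm {q p : ℕ} (hp : p.Prime) (hpq : p ≠ q) {A G V : Subgroup X} [V.Normal]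
    [IsMulCommutative V] (h : Act q A G) (hs : Group.IsSolvable G) (hVG : V ≤ G) (hne : V ≠ ⊥)
    (hVe : ∀ v ∈ V, v ^ p = 1)
    (hmin : ∀ W : Subgroup X, W ≤ V → W ≠ ⊥ → A ≤ normalizer (W : Set X) →
      G ≤ normalizer (W : Set X) → W = V) :
    ⁅G, G⁆ ≤ centralizer (V : Set X) := by
  let _ : CommGroup V := { (inferInstance : Group V) with mul_comm := mul_comm' }
  have : Nontrivial V := (nontrivial_iff_ne_bot V).2 hne
  let f : X →* MulAut V := MulAut.conjNormal
  have hf : ∀ (x : X) (v : V), ((f x v : V) : X) = x * v * x⁻¹ := fun x v => rfl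
  have := h.comm
  let α : A →* MulAut V := f.comp A.subtype
  have hVp : ∀ v : V, v ^ p = 1 := fun v => Subtype.ext (hVe v v.2)
  have hlift : ∀ a : A, ∀ y ∈ G.map f, Commute (α a) y →
      ∃ x ∈ G, Commute (a : X) x ∧ f x = y := by
    intro a y hy hc
    have := CfsgLib.Coprime.map_inf_centralizer f (A := zpowers (a : X))
      ((zpowers_le.2 a.2).trans h.act) (h.coprime_zpowers a.2) (Or.inl inferInstance)
    have hy' : y ∈ (G.map f ⊓ centralizer ((zpowers (a : X)).map f : Set (MulAut V))) := ⟨hy, by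
      rw [MonoidHom.map_zpowers]; exact mem_centralizer_zpowers.2 hc⟩
    rw [← this] at hy'
    obtain ⟨x, hx, e⟩ := mem_map.1 hy'
    exact ⟨x, hx.1, mem_centralizer_zpowers.1 hx.2, e⟩
  have hA1 : ∀ a : A, a ≠ 1 → (a : X) ≠ 1 := fun a ha e => ha (Subtype.ext e)
  have key : ∀ g ∈ G.map f, ∀ k ∈ G.map f, Commute g k := by
    refine image_comm hp h.prime hpq hVp (A := A) h.card (fun a => Subtype.ext (h.expq a a.2)) α
      (G.map f) (by
        have := hs
        exact Group.isSolvable_of_surjective (f.subgroupMap_surjective G))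
      ?_ ?_ ?_ ?_ ?_ ?_ ?_
    · rw [MonoidHom.range_comp, range_subtype]
      exact (map_mono h.act).trans (le_normalizer_map f)
    · exact ((h.prime.coprime_iff_not_dvd.2 h.cop).coprime_dvd_right (Subgroup.card_map_dvd G f)).symm
    · intro a ha y hy hc v hv
      obtain ⟨x, hx, hax, rfl⟩ := hlift a y hy hc
      have hv' : (a : X) * v * (a : X)⁻¹ = v := congrArg Subtype.val hv
      have hcv := h.ab a a.2 (hA1 a ha) x hx v (hVG v.2) hax (eq_mul_inv_iff_mul_eq.1 hv'.symm).symm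
      exact Subtype.ext (by rw [hf, hcv.eq, mul_inv_cancel_right])
    · intro a ha g hg k hk hag hak
      obtain ⟨x, hx, hax, rfl⟩ := hlift a g hg hag
      obtain ⟨y, hy, hay, rfl⟩ := hlift a k hk hak
      exact (h.ab a a.2 (hA1 a ha) x hx y hy hax hay).map f
    · intro g hg hc
      have : g ∈ (G.map f ⊓ centralizer (A.map f : Set (MulAut V))) := ⟨hg, mem_centralizer_iff.2
        (by rintro _ ⟨a, ha, rfl⟩; exact (hc ⟨a, ha⟩).eq)⟩
      rw [← CfsgLib.Coprime.map_inf_centralizer f h.act h.coprime h.solv, h.fix, Subgroup.map_bot,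
        mem_bot] at this
      exact this
    · conv_lhs => rw [← h.iSup_eq, Subgroup.map_iSup]
      refine iSup_le fun ⟨a, ha, ha1⟩ => le_iSup_of_le ⟨⟨a, ha⟩, fun e => ha1 (congrArg Subtype.val e)⟩ ?_
      rintro _ ⟨x, hx, rfl⟩
      refine ⟨mem_map_of_mem f hx.1, mem_centralizer_singleton_iff.2 ?_⟩
      exact ((show Commute x a from mem_centralizer_singleton_iff.1 hx.2).map f).eq
    · intro W hWH hWA
      refine (em (W = ⊥)).imp id fun hW => ?_
      have hn : ∀ x : X, (∀ w ∈ W, f x w ∈ W) → x ∈ normalizer ((W.map V.subtype : Subgroup X) : Set X) := by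
        intro x hx
        rw [mem_normalizer_iff_map_conj_eq]
        refine eq_of_le_of_card_ge ?_ (le_of_eq ?_)
        · rintro _ ⟨_, ⟨w, hw, rfl⟩, rfl⟩
          exact ⟨f x w, hx w hw, hf x w⟩
        · exact (Nat.card_congr ((W.map V.subtype).equivMapOfInjective _
            (MulAut.conj x).injective).toEquiv)
      have := hmin (W.map V.subtype) (map_subtype_le W)
        (fun e => hW ((map_eq_bot_iff_of_injective W V.subtype_injective).1 e))
        (fun a ha => hn a (hWA ⟨a, ha⟩)) (fun g hg => hn g (hWH _ (mem_map_of_mem f hg)))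
      refine eq_top_iff.2 fun v _ => ?_
      obtain ⟨w, hw, e⟩ := mem_map.1 (this.ge v.2)
      rwa [Subtype.ext e] at hw
  refine commutator_le.2 fun g hg k hk => mem_centralizer_iff.2 fun v hv => ?_
  have h1 : f ⁅g, k⁆ = 1 := by
    rw [map_commutatorElement]
    exact commutatorElement_eq_one_iff_commute.2 (key _ (mem_map_of_mem f hg) _ (mem_map_of_mem f hk))
  have h2 := congrArg Subtype.val (DFunLike.congr_fun h1 ⟨v, hv⟩)
  rw [hf] at h2
  exact (mul_inv_eq_iff_eq_mul.1 h2).symm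

/-- A minimal invariant normal subgroup of a solvable group is elementary abelian. -/
theorem exists_minimal {A G : Subgroup X} (hA : A ≤ normalizer (G : Set X))
    (hs : Group.IsSolvable G) (hne : G ≠ ⊥) :
    ∃ (p : ℕ) (V : Subgroup X), p.Prime ∧ V ≤ G ∧ V ≠ ⊥ ∧ IsMulCommutative V ∧
      (∀ v ∈ V, v ^ p = 1) ∧ A ≤ normalizer (V : Set X) ∧ G ≤ normalizer (V : Set X) ∧
      ∀ W : Subgroup X, W ≤ V → W ≠ ⊥ → A ≤ normalizer (W : Set X) →
        G ≤ normalizer (W : Set X) → W = V := by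
  classical
  obtain ⟨p, M, hp, hMG, hMb, hMp, hAM, hGM⟩ :=
    CfsgLib.Coprime.exists_invariant_normal_pgroup hA hs hne
  have := Fact.mk hp
  let S : Set (Subgroup X) := {W | W ≤ M ∧ W ≠ ⊥ ∧ A ≤ normalizer (W : Set X) ∧ G ≤ normalizer (W : Set X)}
  obtain ⟨V, hV, hmin⟩ := Set.Finite.exists_minimal (Set.toFinite S) ⟨M, le_rfl, hMb, hAM, hGM⟩
  obtain ⟨hVM, hVb, hAV, hGV⟩ := hV
  have hm : ∀ W : Subgroup X, W ≤ V → W ≠ ⊥ → A ≤ normalizer (W : Set X) →
      G ≤ normalizer (W : Set X) → W = V := fun W h1 h2 h3 h4 =>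
    le_antisymm h1 (hmin ⟨h1.trans hVM, h2, h3, h4⟩ h1)
  have hVp : IsPGroup p V := hMp.to_le hVM
  have : Nontrivial V := (nontrivial_iff_ne_bot V).2 hVb
  let Z : Subgroup X := V ⊓ centralizer (V : Set X)
  have hnZ : ∀ g, g ∈ normalizer (V : Set X) → g ∈ normalizer (Z : Set X) := by
    intro g hg
    refine mem_normalizer_iff.2 fun x => ?_
    have hgv := mem_normalizer_iff.1 hg
    constructor
    · rintro ⟨hx, hc⟩
      refine ⟨(hgv x).1 hx, mem_centralizer_iff.2 fun m hm => ?_⟩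
      have hm' : g⁻¹ * m * g ∈ V := (mem_normalizer_iff''.1 hg m).1 hm
      calc m * (g * x * g⁻¹) = g * ((g⁻¹ * m * g) * x) * g⁻¹ := by group
        _ = g * (x * (g⁻¹ * m * g)) * g⁻¹ := by rw [mem_centralizer_iff.1 hc _ hm']
        _ = g * x * g⁻¹ * m := by group
    · rintro ⟨hx, hc⟩
      refine ⟨(hgv x).2 hx, mem_centralizer_iff.2 fun m hm => ?_⟩
      have hm' : g * m * g⁻¹ ∈ V := (hgv m).1 hm
      calc m * x = g⁻¹ * ((g * m * g⁻¹) * (g * x * g⁻¹)) * g := by group
        _ = g⁻¹ * ((g * x * g⁻¹) * (g * m * g⁻¹)) * g := by rw [mem_centralizer_iff.1 hc _ hm']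
        _ = x * m := by group
  have hZb : Z ≠ ⊥ := by
    have : Nontrivial (center V) := hVp.center_nontrivial
    obtain ⟨z, hz1⟩ := exists_ne (1 : center V)
    intro hbot
    have : ((z : V) : X) ∈ Z := ⟨(z : V).2, mem_centralizer_iff.2 fun g hg =>
      congrArg Subtype.val (mem_center_iff.1 z.2 ⟨g, hg⟩)⟩
    rw [hbot, mem_bot] at this
    exact hz1 (Subtype.ext (Subtype.ext this))
  have hZV := hm Z inf_le_left hZb (fun a ha => hnZ a (hAV ha)) (fun g hg => hnZ g (hGV hg))
  have hc : ∀ x ∈ V, ∀ y ∈ V, Commute x y := fun x hx y hy =>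
    mem_centralizer_iff.1 (hZV.ge hy).2 x hx
  let Ω : Subgroup X :=
    { carrier := {x | x ∈ V ∧ x ^ p = 1}
      one_mem' := ⟨one_mem V, one_pow p⟩
      mul_mem' := fun {x y} hx hy => ⟨mul_mem hx.1 hy.1, by
        rw [(hc x hx.1 y hy.1).mul_pow, hx.2, hy.2, one_mul]⟩
      inv_mem' := fun {x} hx => ⟨inv_mem hx.1, by rw [inv_pow, hx.2, inv_one]⟩ }
  have hnΩ : ∀ g, g ∈ normalizer (V : Set X) → g ∈ normalizer (Ω : Set X) := by
    intro g hg
    refine mem_normalizer_iff.2 fun x => ⟨fun hx => ⟨(mem_normalizer_iff.1 hg x).1 hx.1, by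
      rw [conj_pow, hx.2, mul_one, mul_inv_cancel]⟩, fun hx => ⟨(mem_normalizer_iff.1 hg x).2 hx.1, ?_⟩⟩
    have h := hx.2
    rw [conj_pow, mul_inv_eq_one] at h
    exact mul_eq_left.1 h
  have hΩb : Ω ≠ ⊥ := by
    obtain ⟨k, hk⟩ := IsPGroup.iff_card.1 hVp
    obtain ⟨⟨x, hx⟩, hxp⟩ := exists_prime_orderOf_dvd_card' (G := V) p
      (hk ▸ dvd_pow_self p fun e => Finite.one_lt_card.ne' (hk.trans (by rw [e, pow_zero])))
    rw [Subgroup.orderOf_mk] at hxp
    intro hbot
    have : x ∈ Ω := ⟨hx, hxp ▸ pow_orderOf_eq_one x⟩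
    rw [hbot, mem_bot] at this
    rw [this, orderOf_one] at hxp
    exact hp.ne_one hxp.symm
  have hΩV := hm Ω (fun x hx => hx.1) hΩb (fun a ha => hnΩ a (hAV ha)) (fun g hg => hnΩ g (hGV hg))
  exact ⟨p, V, hp, hVM.trans hMG, hVb, ⟨⟨fun x y => Subtype.ext (hc x x.2 y y.2)⟩⟩,
    fun v hv => (hΩV.ge hv).2, hAV, hGV, hm⟩

/-- **The derived subgroup of a solvable invariant group is nilpotent.** -/
theorem isNilpotent_commutator {q : ℕ} : ∀ {X : Type u} [Group X] [Finite X] {A G : Subgroup X},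
    Act q A G → Group.IsSolvable G → Group.IsNilpotent (⁅G, G⁆ : Subgroup X) := by
  intro X _ _ A G
  induction hn : Nat.card G using Nat.strong_induction_on generalizing X with
  | _ n ih =>
  intro h hs
  by_cases hG : G = ⊥
  · subst hG
    rw [commutator_bot_left]
    infer_instance
  obtain ⟨p, V, hp, hVG, hVb, hVc, hVe, hAV, hGV, hmin⟩ := exists_minimal h.act hs hG
  have := Fact.mk hp
  have hpq : p ≠ q := by
    rintro rfl
    obtain ⟨v, hv, hv1⟩ := (Subgroup.ne_bot_iff_exists_ne_one).1 hVb |>.elim (fun v hv =>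
      (⟨v, v.2, fun e => hv (Subtype.ext e)⟩ : ∃ v, v ∈ V ∧ v ≠ 1))
    exact h.cop (orderOf_eq_prime (hVe v hv) hv1 ▸ (Subgroup.orderOf_dvd_natCard G (hVG hv)))
  let N : Subgroup X := normalizer (V : Set X)
  have hVN : V ≤ N := le_normalizer
  let A₁ := A.subgroupOf N
  let G₁ := G.subgroupOf N
  let V₁ := V.subgroupOf N
  have h₁ : Act q A₁ G₁ := h.subgroupOf N hAV hGV
  have hs₁ : Group.IsSolvable G₁ := by
    have := hs
    exact Group.isSolvable_of_surjective (f := (subgroupOfEquivOfLe hGV).symm.toMonoidHom)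
      (subgroupOfEquivOfLe hGV).symm.surjective
  have : V₁.Normal := normal_subgroupOf_of_le_normalizer le_rfl
  have : IsMulCommutative V₁ := by
    refine ⟨⟨fun x y => Subtype.ext (Subtype.ext ?_)⟩⟩
    have := congrArg Subtype.val (hVc.is_comm.comm (⟨((x : N) : X), x.2⟩ : V) ⟨((y : N) : X), y.2⟩)
    exact this
  have hV₁b : V₁ ≠ ⊥ := fun e => hVb (by
    rw [← (subgroupOf_map_subtype V N).trans (inf_eq_left.2 hVN)]
    show V₁.map N.subtype = ⊥
    rw [e, Subgroup.map_bot])
  have hlift : ∀ (Y W : Subgroup N), Y ≤ normalizer (W : Set N) →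
      Y.map N.subtype ≤ normalizer ((W.map N.subtype : Subgroup X) : Set X) := fun Y W hYW =>
    (map_mono hYW).trans (le_normalizer_map _)
  have hback : ∀ (U : Subgroup X), U ≤ N → (U.subgroupOf N).map N.subtype = U := fun U hU => by
    rw [subgroupOf_map_subtype, inf_eq_left.2 hU]
  have hcV := aux_comm hp hpq h₁ hs₁ (fun v hv => hVG hv) hV₁b (fun v hv => Subtype.ext (hVe _ hv))
    fun W hW hWb hWA hWG => map_injective N.subtype_injective ((hmin (W.map N.subtype)
      ((map_mono hW).trans (hback V hVN).le)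
      (fun e => hWb ((map_eq_bot_iff_of_injective W N.subtype_injective).1 e))
      ((hback A hAV).ge.trans (hlift _ _ hWA))
      ((hback G hGV).ge.trans (hlift _ _ hWG))).trans (hback V hVN).symm)
  let π := QuotientGroup.mk' V₁
  have hker : A₁ ⊓ π.ker = ⊥ := by
    rw [QuotientGroup.ker_mk']
    refine eq_bot_iff.2 fun x hx => mem_bot.2 (Subtype.ext ?_)
    have hx1 : (x : X) ∈ A := hx.1
    have hx2 : (x : X) ∈ G := hVG hx.2
    exact mem_bot.1 ((Disjoint.eq_bot (Subgroup.disjoint_of_coprime_natCard h.coprime)).le ⟨hx1, hx2⟩)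
  have hlt : Nat.card (G₁.map π) < n := by
    have hV₁G : V₁ ≤ G₁ := fun v hv => hVG hv
    have hc := CfsgLib.Coprime.card_map_mul_card_ker π (S := G₁) (by
      rw [QuotientGroup.ker_mk']; exact hV₁G)
    rw [QuotientGroup.ker_mk', Nat.card_congr (subgroupOfEquivOfLe hGV).toEquiv, hn] at hc
    have hone : 1 < Nat.card V₁ := (Finite.one_lt_card_iff_nontrivial).2 ((nontrivial_iff_ne_bot _).2 hV₁b)
    rw [← hc]
    exact lt_mul_of_one_lt_right Nat.card_pos hone
  have hnil := ih _ hlt rfl (h₁.map π hker) (by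
    have := hs₁
    exact Group.isSolvable_of_surjective (π.subgroupMap_surjective G₁))
  rw [← map_commutator] at hnil
  have : Group.IsNilpotent (⁅G₁, G₁⁆ : Subgroup N) := by
    refine Subgroup.isNilpotent_of_ker_le_center (π.subgroupMap ⁅G₁, G₁⁆) ?_
    intro x hx
    have hxV : (x : N) ∈ V₁ := by
      have := congrArg Subtype.val (MonoidHom.mem_ker.1 hx)
      rwa [MonoidHom.subgroupMap_apply_coe, OneMemClass.coe_one, QuotientGroup.mk'_apply,
        QuotientGroup.eq_one_iff] at this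
    exact mem_center_iff.2 fun y => Subtype.ext (mem_centralizer_iff.1 (hcV y.2) _ hxV).symm
  have e : (⁅G₁, G₁⁆ : Subgroup N).map N.subtype = ⁅G, G⁆ := by
    rw [map_commutator, hback G hGV]
  rw [← e]
  exact Group.nilpotent_of_mulEquiv ((⁅G₁, G₁⁆).equivMapOfInjective _ N.subtype_injective)

end CfsgLib.Invol.AbelianFix
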