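import Cfsg.Agent.Lib.Invol.AbelianFix.Main
import Cfsg.Agent.Lib.Solvable.Products

/-!
# `C_q × C_q` acting coprimely with abelian centralisers: the group is solvable
-/

set_option autoImplicit false

namespace CfsgLib.Invol.AbelianFix

open Subgroup
open scoped Pointwise

universe u

variable {X : Type u} [Group X]

/-- `TP ⊆ PT`. -/
def Swaps (T P : Subgroup X) : Prop := ∀ t ∈ T, ∀ x ∈ P, ∃ x' ∈ P, ∃ t' ∈ T, t * x = x' * t'

theorem Swaps.exists_mul {T P : Subgroup X} (h : Swaps T P) {g : X} (hg : g ∈ P ⊔ T) :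
    ∃ x ∈ P, ∃ t ∈ T, g = x * t := by
  let K : Subgroup X :=
    { carrier := {g | ∃ x ∈ P, ∃ t ∈ T, g = x * t}
      one_mem' := ⟨1, one_mem P, 1, one_mem T, (mul_one 1).symm⟩
      mul_mem' := by
        rintro _ _ ⟨x, hx, t, ht, rfl⟩ ⟨y, hy, u, hu, rfl⟩
        obtain ⟨y', hy', t', ht', e⟩ := h t ht y hy
        refine ⟨x * y', mul_mem hx hy', t' * u, mul_mem ht' hu, ?_⟩
        calc x * t * (y * u) = x * (t * y) * u := by group
          _ = x * y' * (t' * u) := by rw [e]; group
      inv_mem' := by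
        rintro _ ⟨x, hx, t, ht, rfl⟩
        obtain ⟨x', hx', t', ht', e⟩ := h t⁻¹ (inv_mem ht) x⁻¹ (inv_mem hx)
        exact ⟨x', hx', t', ht', by rw [mul_inv_rev, e]⟩ }
  have hle : P ⊔ T ≤ K := sup_le (fun x hx => ⟨x, hx, 1, one_mem T, (mul_one x).symm⟩)
    (fun t ht => ⟨1, one_mem P, t, ht, (one_mul t).symm⟩)
  exact hle hg

theorem Swaps.sup {T P Q : Subgroup X} (h : Swaps T P) (hPQ : Swaps P Q) (hTQ : Swaps T Q) :
    Swaps (P ⊔ T) Q := by
  intro g hg z hz
  obtain ⟨x, hx, t, ht, rfl⟩ := h.exists_mul hg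
  obtain ⟨z', hz', t', ht', e⟩ := hTQ t ht z hz
  obtain ⟨z'', hz'', x', hx', e'⟩ := hPQ x hx z' hz'
  refine ⟨z'', hz'', x' * t', mul_mem (le_sup_left (b := T) hx') (le_sup_right (a := P) ht'), ?_⟩
  calc x * t * z = x * (t * z) := mul_assoc _ _ _
    _ = x * z' * t' := by rw [e, mul_assoc]
    _ = z'' * (x' * t') := by rw [e', mul_assoc]

theorem Swaps.card_sup [Finite X] {T P : Subgroup X} (h : Swaps T P) (hd : P ⊓ T = ⊥) :
    Nat.card (P ⊔ T : Subgroup X) = Nat.card P * Nat.card T := by
  have e : ((P ⊔ T : Subgroup X) : Set X) = (P : Set X) * (T : Set X) :=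
    Set.ext fun g => ⟨fun hg => by
      obtain ⟨x, hx, t, ht, rfl⟩ := h.exists_mul hg
      exact Set.mul_mem_mul hx ht, fun hg => by
      obtain ⟨x, hx, t, ht, rfl⟩ := Set.mem_mul.1 hg
      exact mul_mem (le_sup_left (b := T) hx) (le_sup_right (a := P) ht)⟩
  have h1 := CfsgLib.Solvable.card_mul_set_mul_card_inf P T
  rw [hd, card_bot, mul_one, ← e] at h1
  exact h1

variable [Finite X] {q : ℕ} {A G : Subgroup X}

theorem Minimal.swaps_of_perm {p s : ℕ} [Fact p.Prime] [Fact s.Prime] (hps : p ≠ s) {P S : Subgroup X}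
    (hP : IsSyl p A G P) (hS : IsSyl s A G S) (h : Perm p s A G P S) : Swaps S P := by
  obtain ⟨K, hKG, -, h2, hPK, hSK⟩ := h
  have hle : Nat.card K ≤ Nat.card P * Nat.card S := by
    rw [h2.card_eq hps, hP.card, hS.card]
    have hd := (Nat.factorization_le_iff_dvd Nat.card_pos.ne' Nat.card_pos.ne').2 (card_dvd_of_le hKG)
    exact Nat.mul_le_mul (Nat.pow_le_pow_right (Fact.out : p.Prime).pos (hd p))
      (Nat.pow_le_pow_right (Fact.out : s.Prime).pos (hd s))
  have hd : P ⊓ S = ⊥ := (IsPGroup.disjoint_of_ne p s hps _ _ hP.pgroup hS.pgroup).eq_bot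
  have h1 := CfsgLib.Solvable.card_mul_set_mul_card_inf P S
  rw [hd, card_bot, mul_one] at h1
  have hsub : (P : Set X) * (S : Set X) ⊆ (K : Set X) := fun g hg => by
    obtain ⟨x, hx, t, ht, rfl⟩ := Set.mem_mul.1 hg
    exact mul_mem (hPK hx) (hSK ht)
  have heq : (P : Set X) * (S : Set X) = (K : Set X) :=
    Set.eq_of_subset_of_ncard_le hsub (by
      rw [← Nat.card_coe_set_eq, ← Nat.card_coe_set_eq]
      exact hle.trans h1.ge) (Set.toFinite _)
  intro t ht x hx
  have : t * x ∈ (P : Set X) * (S : Set X) := heq ▸ mul_mem (hSK ht) (hPK hx)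
  obtain ⟨x', hx', t', ht', e⟩ := Set.mem_mul.1 this
  exact ⟨x', hx', t', ht', e.symm⟩

theorem Minimal.false (hM : Minimal q A G) : False := by
  classical
  have hex : ∀ r : ℕ, ∃ P : Subgroup X, r.Prime → IsSyl r A G P := by
    intro r
    by_cases hr : r.Prime
    · have := Fact.mk hr
      exact (hM.toAct.exists_isSyl r).imp fun P h _ => h
    · exact ⟨⊥, fun h => absurd h hr⟩
  choose syl hsyl using hex
  set n := Nat.card G with hn
  have hswap : ∀ p ∈ n.primeFactors, ∀ s ∈ n.primeFactors, p ≠ s → Swaps (syl s) (syl p) := by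
    intro p hp s hs hps
    obtain ⟨hp', hpd, -⟩ := Nat.mem_primeFactors.1 hp
    obtain ⟨hs', hsd, -⟩ := Nat.mem_primeFactors.1 hs
    have := Fact.mk hp'
    have := Fact.mk hs'
    refine Minimal.swaps_of_perm hps (hsyl p hp') (hsyl s hs') ?_
    by_cases hp2 : p = 2
    · exact (hM.perm_of_odd hps.symm (fun e => hps (hp2.trans e.symm)) hsd hpd (hsyl s hs')
        (hsyl p hp')).symm
    · exact hM.perm_of_odd hps hp2 hpd hsd (hsyl p hp') (hsyl s hs')
  have key : ∀ F : Finset ℕ, F ⊆ n.primeFactors → ∃ T : Subgroup X, T ≤ G ∧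
      Nat.card T = ∏ r ∈ F, r ^ n.factorization r ∧
      ∀ r ∈ n.primeFactors, r ∉ F → Swaps T (syl r) := by
    intro F
    induction F using Finset.induction_on with
    | empty =>
      intro _
      refine ⟨⊥, bot_le, by rw [card_bot, Finset.prod_empty], fun r _ _ t ht x hx => ?_⟩
      rw [mem_bot] at ht
      exact ⟨x, hx, 1, one_mem _, by rw [ht, one_mul, mul_one]⟩
    | insert s F hsF ih =>
      intro hsub
      obtain ⟨T, hTG, hTc, hT⟩ := ih ((Finset.subset_insert s F).trans hsub)
      have hs := hsub (Finset.mem_insert_self s F)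
      have hs' := (Nat.mem_primeFactors.1 hs).1
      have := Fact.mk hs'
      have hS := hsyl s hs'
      have hTS := hT s hs hsF
      have hd : syl s ⊓ T = ⊥ := by
        refine (Subgroup.disjoint_of_coprime_natCard ?_).eq_bot
        rw [hS.card, hTc]
        refine Nat.Coprime.pow_left _ (Nat.Coprime.prod_right fun r hr => Nat.Coprime.pow_right _
          ((Nat.coprime_primes hs' (Nat.mem_primeFactors.1 (hsub (Finset.mem_insert_of_mem hr))).1).2
            fun e => hsF (e ▸ hr)))
      refine ⟨syl s ⊔ T, sup_le hS.le hTG, ?_, fun r hr hrF => ?_⟩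
      · rw [hTS.card_sup hd, Finset.prod_insert hsF, hS.card, hTc]
      · exact hTS.sup (hswap r hr s hs fun e => hrF (e ▸ Finset.mem_insert_self s F))
          (hT r hr fun h => hrF (Finset.mem_insert_of_mem h))
  refine hM.ns (CfsgLib.Solvable.isSolvable_of_complements fun p hp => ?_)
  by_cases hpn : p ∈ n.primeFactors
  · obtain ⟨T, hTG, hTc, -⟩ := key (n.primeFactors.erase p) (Finset.erase_subset _ _)
    refine ⟨T.subgroupOf G, ?_⟩
    have h1 := (T.subgroupOf G).card_mul_index
    rw [Nat.card_congr (subgroupOfEquivOfLe hTG).toEquiv, hTc] at h1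
    have h2 : ∏ r ∈ n.primeFactors, r ^ n.factorization r = n := by
      have := Nat.prod_factorization_pow_eq_self (n := n) Nat.card_pos.ne'
      rwa [Nat.prod_factorization_eq_prod_primeFactors] at this
    rw [← Finset.mul_prod_erase _ _ hpn] at h2
    have hpos : (∏ r ∈ n.primeFactors.erase p, r ^ n.factorization r) ≠ 0 := by
      intro e
      rw [e, zero_mul] at h1
      exact Nat.card_pos.ne' h1.symm
    rw [← hn]
    refine mul_left_cancel₀ hpos ?_
    rw [h1, ← hn, mul_comm]
    exact h2.symm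
  · refine ⟨⊤, ?_⟩
    rw [index_top, ← hn, Nat.factorization_eq_zero_of_not_dvd fun h =>
      hpn (Nat.mem_primeFactors.2 ⟨hp, h, Nat.card_pos.ne'⟩), pow_zero]

/-- **Solvability** for a coprime action of `C_q × C_q` with abelian centralisers. -/
theorem isSolvable {q : ℕ} : ∀ {X : Type u} [Group X] [Finite X] {A G : Subgroup X},
    Act0 q A G → Group.IsSolvable G := by
  intro X _ _ A G
  induction hn : Nat.card G using Nat.strong_induction_on generalizing X with
  | _ n ih =>
  intro h
  by_contra hns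
  have hsub : ∀ H : Subgroup X, H ≤ G → H ≠ G → A ≤ normalizer (H : Set X) → Group.IsSolvable H :=
    fun H hH hne hA => ih _ (hn ▸ lt_of_le_of_ne (card_le_of_le hH)
      fun e => hne (eq_of_le_of_card_ge hH e.ge)) rfl (h.mono hH hA)
  have hnorm : ∀ V : Subgroup X, V ≤ G → A ≤ normalizer (V : Set X) → G ≤ normalizer (V : Set X) →
      V = ⊥ ∨ V = G := by
    intro V hVG hAV hGV
    by_contra hne
    push Not at hne
    refine hns ?_
    let N : Subgroup X := normalizer (V : Set X)
    have hVN : V ≤ N := le_normalizer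
    let V₁ := V.subgroupOf N
    let G₁ := G.subgroupOf N
    have : V₁.Normal := normal_subgroupOf_of_le_normalizer le_rfl
    let π := QuotientGroup.mk' V₁
    have hker : A.subgroupOf N ⊓ π.ker = ⊥ := by
      rw [QuotientGroup.ker_mk']
      refine eq_bot_iff.2 fun x hx => mem_bot.2 (Subtype.ext ?_)
      exact mem_bot.1 ((Disjoint.eq_bot (Subgroup.disjoint_of_coprime_natCard h.coprime)).le
        ⟨hx.1, hVG hx.2⟩)
    have hV₁G : V₁ ≤ G₁ := fun v hv => hVG hv
    have hlt : Nat.card (G₁.map π) < n := by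
      have hc := CfsgLib.Coprime.card_map_mul_card_ker π (S := G₁) (by
        rw [QuotientGroup.ker_mk']; exact hV₁G)
      rw [QuotientGroup.ker_mk', Nat.card_congr (subgroupOfEquivOfLe hGV).toEquiv, hn] at hc
      have hone : 1 < Nat.card V₁ := by
        rw [Nat.card_congr (subgroupOfEquivOfLe hVN).toEquiv]
        exact Finite.one_lt_card_iff_nontrivial.2 ((nontrivial_iff_ne_bot _).2 hne.1)
      rw [← hc]
      exact lt_mul_of_one_lt_right Nat.card_pos hone
    have hq : Group.IsSolvable (G₁.map π) :=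
      ih _ hlt rfl ((h.subgroupOf N hAV hGV).map π hker)
    have hV : Group.IsSolvable V₁ := by
      have := hsub V hVG hne.2 hAV
      exact Group.isSolvable_of_surjective (f := (subgroupOfEquivOfLe hVN).symm.toMonoidHom)
        (subgroupOfEquivOfLe hVN).symm.surjective
    have : Group.IsSolvable G₁ := Group.isSolvable_of_ker_le_range (Subgroup.inclusion hV₁G)
      (π.subgroupMap G₁) fun x hx => by
        have := congrArg Subtype.val (MonoidHom.mem_ker.1 hx)
        rw [MonoidHom.subgroupMap_apply_coe, OneMemClass.coe_one, QuotientGroup.mk'_apply,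
          QuotientGroup.eq_one_iff] at this
        exact ⟨⟨x, this⟩, rfl⟩
    exact Group.isSolvable_of_surjective (f := (subgroupOfEquivOfLe hGV).toMonoidHom)
      (subgroupOfEquivOfLe hGV).surjective
  -- no fixed points
  have hfix : G ⊓ centralizer (A : Set X) = ⊥ := by
    set F := G ⊓ centralizer (A : Set X)
    have hcent : G ≤ centralizer (F : Set X) := by
      rw [← h.iSup_eq]
      refine iSup_le fun ⟨a, ha, ha1⟩ g hg => mem_centralizer_iff.2 fun f hf => ?_
      exact (h.ab a ha ha1 f hf.1 g hg.1 (mem_centralizer_iff.1 hf.2 a ha)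
        (mem_centralizer_singleton_iff.1 hg.2).symm).eq
    rcases hnorm F inf_le_left (le_normalizer_inf h.act
      (le_normalizer.trans (normalizer_le_normalizer_centralizer A)))
      (hcent.trans (centralizer_le_normalizer _)) with e | e
    · exact e
    · exfalso
      exact hns (Group.isSolvable_of_comm fun x y => Subtype.ext
        (mem_centralizer_iff.1 (hcent y.2) x (e.symm ▸ x.2 : (x : X) ∈ F)))
  exact Minimal.false (hM := ⟨⟨h, hfix⟩, hns, hsub, hnorm⟩)

end CfsgLib.Invol.AbelianFix
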