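import Cfsg.Agent.Lib.Invol.AbelianFix.Module
import Cfsg.Agent.Lib.Coprime.Generation
import Cfsg.Agent.Lib.Coprime.Hall
import Mathlib

/-!
# Irreducible images are abelian

Coprime action of `A ≅ C_q × C_q` on a solvable group `H` all of whose centralisers `C_H(a)`
are abelian: on an irreducible `H A`-module with `C_V(a)` centralised by `C_H(a)`, the image of
`H` is abelian.
-/

set_option autoImplicit false

namespace CfsgLib.Invol.AbelianFix

open Subgroup

variable {V : Type*} [CommGroup V]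

/-- The fixed points of a group of automorphisms, as a subgroup. -/
def fixSub (J : Subgroup (MulAut V)) : Subgroup V where
  carrier := {v | ∀ j ∈ J, j v = v}
  one_mem' j _ := map_one j
  mul_mem' hx hy j hj := by rw [map_mul, hx j hj, hy j hj]
  inv_mem' hx j hj := by rw [map_inv, hx j hj]

theorem fixSub_invariant {J : Subgroup (MulAut V)} {g : MulAut V}
    (hg : g ∈ normalizer (J : Set (MulAut V))) {v : V} (hv : v ∈ fixSub J) : g v ∈ fixSub J := by
  intro j hj
  have h := hv _ ((mem_normalizer_iff''.1 hg j).1 hj)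
  rw [MulAut.mul_apply, MulAut.mul_apply] at h
  conv_rhs => rw [← h]
  rw [MulAut.apply_inv_self]

theorem eq_bot_of_fixSub_eq_top {J : Subgroup (MulAut V)} (h : fixSub J = ⊤) : J = ⊥ :=
  eq_bot_iff.2 fun j hj => mem_bot.2 (MulEquiv.ext fun v => (h.ge (mem_top v) : v ∈ fixSub J) j hj)

theorem irr_fix {H J : Subgroup (MulAut V)} {A : Type*} [Group A] {α : A →* MulAut V}
    (hirr : ∀ W : Subgroup V, (∀ h ∈ H, ∀ w ∈ W, h w ∈ W) → (∀ a : A, ∀ w ∈ W, α a w ∈ W) →
      W = ⊥ ∨ W = ⊤)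
    (hHJ : H ≤ normalizer (J : Set (MulAut V)))
    (hαJ : ∀ a : A, α a ∈ normalizer (J : Set (MulAut V))) (hJ : J ≠ ⊥) : fixSub J = ⊥ :=
  (hirr (fixSub J) (fun _ hh _ hw => fixSub_invariant (hHJ hh) hw)
    (fun a _ hw => fixSub_invariant (hαJ a) hw)).resolve_right
    fun h => hJ (eq_bot_of_fixSub_eq_top h)

theorem pgroup_eq_bot [Finite V] [Nontrivial V] {p : ℕ} [Fact p.Prime] (hV : IsPGroup p V)
    {H J : Subgroup (MulAut V)} {A : Type*} [Group A] {α : A →* MulAut V}
    (hirr : ∀ W : Subgroup V, (∀ h ∈ H, ∀ w ∈ W, h w ∈ W) → (∀ a : A, ∀ w ∈ W, α a w ∈ W) →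
      W = ⊥ ∨ W = ⊤)
    (hHJ : H ≤ normalizer (J : Set (MulAut V)))
    (hαJ : ∀ a : A, α a ∈ normalizer (J : Set (MulAut V))) (hJ : IsPGroup p J) : J = ⊥ := by
  by_contra hne
  have h1 : p ∣ Nat.card V := by
    obtain ⟨k, hk⟩ := IsPGroup.iff_card.1 hV
    rw [hk]
    exact dvd_pow_self p fun e => Finite.one_lt_card.ne' (hk.trans (by rw [e, pow_zero]))
  obtain ⟨b, hb, hb1⟩ := hJ.exists_fixed_point_of_prime_dvd_card_of_fixed_point (α := V) h1
    (a := 1) (fun j => map_one (j : MulAut V))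
  have : b ∈ fixSub J := fun j hj => hb ⟨j, hj⟩
  rw [irr_fix hirr hHJ hαJ hne, mem_bot] at this
  exact hb1 this.symm

theorem coprime_of_abelian [Finite V] [Nontrivial V] {p : ℕ} [Fact p.Prime] (hV : IsPGroup p V)
    {H J : Subgroup (MulAut V)} {A : Type*} [Group A] {α : A →* MulAut V}
    (hirr : ∀ W : Subgroup V, (∀ h ∈ H, ∀ w ∈ W, h w ∈ W) → (∀ a : A, ∀ w ∈ W, α a w ∈ W) →
      W = ⊥ ∨ W = ⊤)
    (hHJ : H ≤ normalizer (J : Set (MulAut V)))
    (hαJ : ∀ a : A, α a ∈ normalizer (J : Set (MulAut V)))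
    (hc : ∀ x ∈ J, ∀ y ∈ J, Commute x y) : (Nat.card J).Coprime p := by
  refine Nat.Coprime.symm ((Fact.out : p.Prime).coprime_iff_not_dvd.2 fun hd => ?_)
  let J₀ : Subgroup (MulAut V) :=
    { carrier := {x | x ∈ J ∧ x ^ p = 1}
      one_mem' := ⟨one_mem J, one_pow p⟩
      mul_mem' := fun {x y} hx hy => ⟨mul_mem hx.1 hy.1, by
        rw [(hc x hx.1 y hy.1).mul_pow, hx.2, hy.2, one_mul]⟩
      inv_mem' := fun {x} hx => ⟨inv_mem hx.1, by rw [inv_pow, hx.2, inv_one]⟩ }
  have hn : ∀ g, g ∈ normalizer (J : Set (MulAut V)) → g ∈ normalizer (J₀ : Set (MulAut V)) := by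
    intro g hg
    refine mem_normalizer_iff.2 fun x => ⟨fun hx => ⟨(mem_normalizer_iff.1 hg x).1 hx.1, by
      rw [conj_pow, hx.2, mul_one, mul_inv_cancel]⟩, fun hx => ⟨(mem_normalizer_iff.1 hg x).2 hx.1, ?_⟩⟩
    have h := hx.2
    rw [conj_pow, mul_inv_eq_one] at h
    exact mul_eq_left.1 h
  obtain ⟨⟨x, hx⟩, hxp⟩ := exists_prime_orderOf_dvd_card' (G := J) p hd
  rw [Subgroup.orderOf_mk] at hxp
  have h0 := pgroup_eq_bot hV hirr (fun g hg => hn g (hHJ hg)) (fun a => hn _ (hαJ a))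
    (J := J₀) fun y => ⟨1, Subtype.ext (by simpa using y.2.2)⟩
  have : x ∈ J₀ := ⟨hx, hxp ▸ pow_orderOf_eq_one x⟩
  rw [h0, mem_bot] at this
  rw [this, orderOf_one] at hxp
  exact (Fact.out : p.Prime).ne_one hxp.symm

/-- **The image of `H` on an irreducible module is abelian.** -/
theorem image_comm [Finite V] [Nontrivial V] {p q : ℕ} (hp : p.Prime) (hq : q.Prime) (hpq : p ≠ q)
    (hV : ∀ v : V, v ^ p = 1) {A : Type*} [Group A] [Finite A] [IsMulCommutative A]
    (hA : Nat.card A = q ^ 2) (hAe : ∀ a : A, a ^ q = 1) (α : A →* MulAut V)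
    (H : Subgroup (MulAut V)) (hH : Group.IsSolvable H)
    (hαH : α.range ≤ normalizer (H : Set (MulAut V))) (hcop : (Nat.card H).Coprime q)
    (hfix : ∀ a : A, a ≠ 1 → ∀ h ∈ H, Commute (α a) h → ∀ v, α a v = v → h v = v)
    (hab : ∀ a : A, a ≠ 1 → ∀ g ∈ H, ∀ h ∈ H, Commute (α a) g → Commute (α a) h → Commute g h)
    (hCA : ∀ h ∈ H, (∀ a : A, Commute (α a) h) → h = 1)
    (hgen : H ≤ ⨆ a : {a : A // a ≠ 1}, H ⊓ centralizer {α a})
    (hirr : ∀ W : Subgroup V, (∀ h ∈ H, ∀ w ∈ W, h w ∈ W) → (∀ a : A, ∀ w ∈ W, α a w ∈ W) →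
      W = ⊥ ∨ W = ⊤) :
    ∀ g ∈ H, ∀ h ∈ H, Commute g h := by
  have := Fact.mk hp
  have hpV : IsPGroup p V := fun v => ⟨1, by rw [pow_one, hV]⟩
  by_cases hHb : H = ⊥
  · intro g hg h _
    rw [hHb, mem_bot] at hg
    rw [hg]; exact Commute.one_left h
  have hmemC : ∀ {a : A} {h : MulAut V},
      h ∈ H ⊓ centralizer {α a} ↔ h ∈ H ∧ Commute (α a) h := fun {a h} => by
    rw [mem_inf, mem_centralizer_singleton_iff]
    exact Iff.and Iff.rfl (Eq.congr rfl rfl |>.trans ⟨Eq.symm, Eq.symm⟩)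
  have hαpow : ∀ a : A, α a ^ q = 1 := fun a => by rw [← map_pow, hAe, map_one]
  -- an abelian invariant subgroup is central
  have hcentral : ∀ J : Subgroup (MulAut V), J ≤ H → H ≤ normalizer (J : Set (MulAut V)) →
      (∀ a : A, α a ∈ normalizer (J : Set (MulAut V))) → (∀ x ∈ J, ∀ y ∈ J, Commute x y) →
      ∀ h ∈ H, ∀ x ∈ J, Commute h x := by
    intro J hJH hHJ hαJ hJc
    have hJp := coprime_of_abelian hpV hirr hHJ hαJ hJc
    intro h hh
    refine iSup_induction (C := fun g => ∀ x ∈ J, Commute g x) _ (hgen hh) ?_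
      (fun x _ => Commute.one_left x) (fun g₁ g₂ h1 h2 x hx => (h1 x hx).mul_left (h2 x hx))
    rintro ⟨a, ha⟩ s hs x hx
    obtain ⟨hsH, hsa⟩ := hmemC.1 hs
    let B := zpowers (α a)
    have hB : B ≤ normalizer (J : Set (MulAut V)) := zpowers_le.2 (hαJ a)
    have hBcop : (Nat.card B).Coprime (Nat.card J) := by
      rw [Nat.card_zpowers]
      exact (((hcop.coprime_dvd_left (card_dvd_of_le hJH))).coprime_dvd_right
        (orderOf_dvd_of_pow_eq_one (hαpow a))).symm
    have hBs : Group.IsSolvable B ∨ Group.IsSolvable J := Or.inl inferInstance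
    obtain ⟨n, hn, c, hc, rfl⟩ := CfsgLib.Coprime.exists_mul_eq' hB hBcop hBs hx
    refine Commute.mul_right ?_ (hab a ha s hsH c (hJH hc.1) hsa
      ((mem_centralizer_iff.1 hc.2 _ (mem_zpowers _))))
    let E := ⁅J, B⁆
    have hEJ : E ≤ J := le_normalizer_iff_commutator_le_left.mp hB
    have : IsMulCommutative E := ⟨⟨fun u w => Subtype.ext (hJc u (hEJ u.2) w (hEJ w.2))⟩⟩
    have hsJ : s ∈ normalizer (J : Set (MulAut V)) := hHJ hsH
    have hsE : s ∈ normalizer (E : Set (MulAut V)) := by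
      rw [mem_normalizer_iff_map_conj_eq, map_commutator, mem_normalizer_iff_map_conj_eq.1 hsJ]
      congr 1
      rw [MonoidHom.map_zpowers]
      congr 1
      show s * α a * s⁻¹ = α a
      rw [← hsa.eq, mul_inv_cancel_right]
    have hJab : IsMulCommutative J := ⟨⟨fun u w => Subtype.ext (hJc u u.2 w w.2)⟩⟩
    refine commute_of_fix hp hq hpq hV (hJp.coprime_dvd_left (card_dvd_of_le hEJ)) (hαpow a)
      (normalizer_commutator_ge_right J B (mem_zpowers _)) hsE (fun e he hce => ?_) hsa.symm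
      (n := Nat.card H) hcop ?_ (fun v hv => hfix a ha s hsH hsa v hv) hn
    · have hbot := CfsgLib.Coprime.commutator_inf_centralizer_eq_bot hJab hB hBcop
      have : e ∈ E ⊓ centralizer (B : Set (MulAut V)) := ⟨he, mem_centralizer_iff.2 fun g hg => by
        obtain ⟨i, rfl⟩ := mem_zpowers_iff.1 hg
        exact (hce.zpow_left i).eq⟩
      rw [hbot] at this
      exact mem_bot.1 this
    · exact congrArg Subtype.val (pow_card_eq_one' (x := (⟨s, hsH⟩ : H)))
  -- the centre is nontrivial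
  obtain ⟨r, M, hr, hMH, hMb, hMp, hαM, hHM⟩ :=
    CfsgLib.Coprime.exists_invariant_normal_pgroup hαH hH hHb
  have := Fact.mk hr
  have hMc : M ⊓ centralizer (M : Set (MulAut V)) ≠ ⊥ := by
    have : Nontrivial M := (nontrivial_iff_ne_bot M).2 hMb
    have : Nontrivial (center M) := hMp.center_nontrivial
    obtain ⟨z, hz1⟩ := exists_ne (1 : center M)
    intro hbot
    have : ((z : M) : MulAut V) ∈ M ⊓ centralizer (M : Set (MulAut V)) := ⟨(z : M).2,
      mem_centralizer_iff.2 fun g hg => congrArg Subtype.val (mem_center_iff.1 z.2 ⟨g, hg⟩)⟩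
    rw [hbot, mem_bot] at this
    exact hz1 (Subtype.ext (Subtype.ext this))
  have hnM : ∀ g, g ∈ normalizer (M : Set (MulAut V)) →
      g ∈ normalizer ((M ⊓ centralizer (M : Set (MulAut V)) : Subgroup (MulAut V)) : Set (MulAut V)) := by
    intro g hg
    rw [mem_normalizer_iff_map_conj_eq] at hg ⊢
    rw [map_inf _ _ _ (MulAut.conj g).injective]
    congr 1
    refine le_antisymm (map_centralizer_le_centralizer_image _ _ |>.trans ?_) ?_
    · rw [← coe_map, hg]
    · intro x hx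
      refine ⟨g⁻¹ * x * g, mem_centralizer_iff.2 fun m hm => ?_, by simp [mul_assoc]⟩
      have hm' : g * m * g⁻¹ ∈ M := hg ▸ mem_map_of_mem _ hm
      have := mem_centralizer_iff.1 hx _ hm'
      calc m * (g⁻¹ * x * g) = g⁻¹ * ((g * m * g⁻¹) * x) * g := by group
        _ = g⁻¹ * (x * (g * m * g⁻¹)) * g := by rw [this]
        _ = g⁻¹ * x * g * m := by group
  set Z := H ⊓ centralizer (H : Set (MulAut V)) with hZ
  have hZb : Z ≠ ⊥ := fun hbot => hMc (eq_bot_iff.2 fun x hx => hbot ▸ (⟨hMH hx.1,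
    mem_centralizer_iff.2 fun h hh => (hcentral _ (inf_le_left.trans hMH)
      (fun g hg => hnM g (hHM hg)) (fun a => hnM _ (hαM ⟨a, rfl⟩))
      (fun u hu w hw => ((mem_centralizer_iff.1 hu.2 w hw.1).symm)) h hh x hx).eq⟩ : x ∈ Z))
  have hHZ : H ≤ normalizer (Z : Set (MulAut V)) := fun h hh => mem_normalizer_iff.2 fun x => by
    constructor
    · intro hx
      rwa [(mem_centralizer_iff.1 hx.2 h hh), mul_inv_cancel_right]
    · intro hx
      have e := mem_centralizer_iff.1 hx.2 h⁻¹ (inv_mem hh)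
      have : x = h * x * h⁻¹ := by
        calc x = h⁻¹ * (h * x * h⁻¹) * h := by group
          _ = (h * x * h⁻¹) * h⁻¹ * h := by rw [e]
          _ = h * x * h⁻¹ := by group
      rwa [this]
  have hαZ : ∀ a : A, α a ∈ normalizer (Z : Set (MulAut V)) := fun a => by
    have hg := hαH ⟨a, rfl⟩
    rw [mem_normalizer_iff_map_conj_eq] at hg ⊢
    rw [hZ, map_inf _ _ _ (MulAut.conj (α a)).injective, hg]
    congr 1
    refine le_antisymm (map_centralizer_le_centralizer_image _ _ |>.trans ?_) ?_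
    · rw [← coe_map, hg]
    · intro x hx
      refine ⟨(α a)⁻¹ * x * α a, mem_centralizer_iff.2 fun m hm => ?_, by simp [mul_assoc]⟩
      have hm' : α a * m * (α a)⁻¹ ∈ H := hg ▸ mem_map_of_mem _ hm
      have := mem_centralizer_iff.1 hx _ hm'
      calc m * ((α a)⁻¹ * x * α a) = (α a)⁻¹ * ((α a * m * (α a)⁻¹) * x) * α a := by group
        _ = (α a)⁻¹ * (x * (α a * m * (α a)⁻¹)) * α a := by rw [this]
        _ = (α a)⁻¹ * x * α a * m := by group
  have hZc : ∀ x ∈ Z, ∀ y ∈ Z, Commute x y := fun x hx y hy => mem_centralizer_iff.1 hy.2 x hx.1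
  have hZp := coprime_of_abelian hpV hirr hHZ hαZ hZc
  -- a generator acts trivially unless it centralises the centre
  have hdich : ∀ a : A, a ≠ 1 → (∃ s ∈ H, Commute (α a) s ∧ s ≠ 1) →
      ∀ z ∈ Z, Commute (α a) z := by
    rintro a ha ⟨s, hsH, hsa, hs1⟩
    by_contra hex
    push Not at hex
    obtain ⟨z, hz, hza⟩ := hex
    let B := zpowers (α a)
    have hB : B ≤ normalizer (Z : Set (MulAut V)) := zpowers_le.2 (hαZ a)
    have hBcop : (Nat.card B).Coprime (Nat.card Z) := by
      rw [Nat.card_zpowers]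
      exact ((hcop.coprime_dvd_left (card_dvd_of_le inf_le_left)).coprime_dvd_right
        (orderOf_dvd_of_pow_eq_one (hαpow a))).symm
    let E := ⁅Z, B⁆
    have hEZ : E ≤ Z := le_normalizer_iff_commutator_le_left.mp hB
    have hEb : E ≠ ⊥ := fun e => hza ((mem_centralizer_iff.1
      (commutator_eq_bot_iff_le_centralizer.1 e hz) _ (mem_zpowers _)) : _ = _)
    have : IsMulCommutative E := ⟨⟨fun u w => Subtype.ext (hZc u (hEZ u.2) w (hEZ w.2))⟩⟩
    have hHE : H ≤ normalizer (E : Set (MulAut V)) := fun h hh => mem_normalizer_iff.2 fun x => by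
      constructor
      · intro hx
        rwa [(mem_centralizer_iff.1 (hEZ hx).2 h hh), mul_inv_cancel_right]
      · intro hx
        have e := mem_centralizer_iff.1 (hEZ hx).2 h⁻¹ (inv_mem hh)
        have : x = h * x * h⁻¹ := by
          calc x = h⁻¹ * (h * x * h⁻¹) * h := by group
            _ = (h * x * h⁻¹) * h⁻¹ * h := by rw [e]
            _ = h * x * h⁻¹ := by group
        rwa [this]
    have hαE : ∀ b : A, α b ∈ normalizer (E : Set (MulAut V)) := fun b => by
      rw [mem_normalizer_iff_map_conj_eq, map_commutator, mem_normalizer_iff_map_conj_eq.1 (hαZ b)]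
      congr 1
      rw [MonoidHom.map_zpowers]
      congr 1
      show α b * α a * (α b)⁻¹ = α a
      rw [← map_mul, mul_comm' b a, map_mul, mul_inv_cancel_right]
    have hZab : IsMulCommutative Z := ⟨⟨fun u w => Subtype.ext (hZc u u.2 w w.2)⟩⟩
    have hfix0 := irr_fix hirr hHE hαE hEb
    refine hs1 (MulEquiv.ext fun v => ?_)
    have hv : v ∈ closure ({v : V | ∀ e ∈ E, e v = v} ∪ {u | ∃ e ∈ E, ∃ v, α a v = v ∧ e v = u}) := by
      rw [gen_fix hp hq hV (hZp.coprime_dvd_left (card_dvd_of_le hEZ)) (hαpow a)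
        (normalizer_commutator_ge_right Z B (mem_zpowers _)) (fun e he hce => ?_)]
      · exact mem_top v
      · have hbot := CfsgLib.Coprime.commutator_inf_centralizer_eq_bot hZab hB hBcop
        have : e ∈ E ⊓ centralizer (B : Set (MulAut V)) := ⟨he, mem_centralizer_iff.2 fun g hg => by
          obtain ⟨i, rfl⟩ := mem_zpowers_iff.1 hg
          exact (hce.zpow_left i).eq⟩
        rw [hbot] at this
        exact mem_bot.1 this
    induction hv using closure_induction with
    | mem u hu =>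
      rcases hu with hu | ⟨e, he, w, hw, rfl⟩
      · have : u ∈ fixSub E := hu
        rw [hfix0, mem_bot] at this
        rw [this, map_one, map_one]
      · have hc : Commute s e := mem_centralizer_iff.1 (hEZ he).2 s hsH
        show s (e w) = e w
        rw [← MulAut.mul_apply, hc.eq, MulAut.mul_apply, hfix a ha s hsH hsa w hw]
    | one => simp
    | mul x y _ _ hx hy => rw [map_mul, hx, hy]; rfl
    | inv x _ hx => rw [map_inv, hx]; rfl
  -- all nontrivial centralisers are equal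
  by_cases hex : ∃ a₀ : A, a₀ ≠ 1 ∧ ∃ s ∈ H, Commute (α a₀) s ∧ s ≠ 1
  · obtain ⟨a₀, ha₀, hs₀⟩ := hex
    have hle : H ≤ centralizer {α a₀} := by
      refine hgen.trans (iSup_le fun ⟨b, hb⟩ s hs => ?_)
      obtain ⟨hsH, hsb⟩ := hmemC.1 hs
      by_cases hs1 : s = 1
      · rw [hs1]; exact one_mem _
      have hline : a₀ ∈ zpowers b := by
        by_contra hnot
        have hgenA : zpowers b ⊔ zpowers a₀ = (⊤ : Subgroup A) := by
          refine eq_top_of_card_eq _ ?_
          have hob : Nat.card (zpowers b) = q := by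
            rw [Nat.card_zpowers]; exact orderOf_eq_prime (hp := ⟨hq⟩) (hAe b) hb
          have hd : Nat.card (zpowers b ⊔ zpowers a₀ : Subgroup A) ∣ q ^ 2 :=
            hA ▸ card_subgroup_dvd_card _
          obtain ⟨k, hk, hk'⟩ := (Nat.dvd_prime_pow hq).1 hd
          have hlt : q < Nat.card (zpowers b ⊔ zpowers a₀ : Subgroup A) := by
            refine lt_of_le_of_ne (hob ▸ card_le_of_le le_sup_left) fun e => hnot ?_
            have := eq_of_le_of_card_ge (le_sup_left : zpowers b ≤ zpowers b ⊔ zpowers a₀)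
              (by rw [hob, ← e])
            exact this ▸ le_sup_right (a := zpowers b) (mem_zpowers a₀)
          interval_cases k
          · rw [hk', pow_zero] at hlt; exact absurd hlt (by have := hq.one_lt; omega)
          · rw [hk', pow_one] at hlt; exact absurd hlt (lt_irrefl _)
          · rw [hk', hA]
        have hb' := hdich b hb ⟨s, hsH, hsb, hs1⟩
        have ha' := hdich a₀ ha₀ hs₀
        refine hZb (eq_bot_iff.2 fun z hz => mem_bot.2 (hCA z hz.1 fun c => ?_))
        have hc : c ∈ zpowers b ⊔ zpowers a₀ := hgenA ▸ mem_top c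
        have hle : zpowers b ⊔ zpowers a₀ ≤ (centralizer ({z} : Set (MulAut V))).comap α :=
          sup_le (zpowers_le.2 (mem_centralizer_singleton_iff.2 (hb' z hz).eq))
            (zpowers_le.2 (mem_centralizer_singleton_iff.2 (ha' z hz).eq))
        exact mem_centralizer_singleton_iff.1 (hle hc)
      obtain ⟨i, rfl⟩ := mem_zpowers_iff.1 hline
      rw [mem_centralizer_singleton_iff, map_zpow]
      exact (hsb.zpow_left i).eq.symm
    exact fun g hg h hh => hab a₀ ha₀ g hg h hh (mem_centralizer_singleton_iff.1 (hle hg)).symm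
      (mem_centralizer_singleton_iff.1 (hle hh)).symm
  · exfalso
    push Not at hex
    refine hHb (eq_bot_iff.2 (hgen.trans (iSup_le fun ⟨b, hb⟩ s hs => ?_)))
    exact mem_bot.2 (hex b hb s (hmemC.1 hs).1 (hmemC.1 hs).2)

end CfsgLib.Invol.AbelianFix
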