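import Cfsg.Agent.Lib.Invol.AbelianFix.TwoPrimes
import Cfsg.Agent.Lib.Complement.Thompson
import Cfsg.Agent.Lib.PLocal.QuotientCoprime
import Cfsg.Agent.Lib.PLocal.Thompson
import Cfsg.Agent.Lib.Transfer.Frobenius

/-!
# `C_q × C_q` acting coprimely with abelian centralisers: the group is solvable
-/

set_option autoImplicit false

namespace CfsgLib.Invol.AbelianFix

open Subgroup CfsgLib.FixedFree
open scoped commutatorElement

universe u

variable {X : Type u} [Group X]

theorem Act0.closure_pair [Finite X] {q : ℕ} {A G : Subgroup X} (h : Act0 q A G) {c d : X}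
    (hc : c ∈ A) (hc1 : c ≠ 1) (hd : d ∈ A) (hdc : d ∉ zpowers c) : zpowers c ⊔ zpowers d = A := by
  have hle : zpowers c ⊔ zpowers d ≤ A := sup_le (zpowers_le.2 hc) (zpowers_le.2 hd)
  refine eq_of_le_of_card_ge hle ?_
  have hob : Nat.card (zpowers c) = q := by
    rw [Nat.card_zpowers]; exact orderOf_eq_prime (hp := ⟨h.prime⟩) (h.expq c hc) hc1
  obtain ⟨k, hk, hk'⟩ := (Nat.dvd_prime_pow h.prime).1 (h.card ▸ card_dvd_of_le hle)
  have hlt : q < Nat.card (zpowers c ⊔ zpowers d : Subgroup X) := by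
    refine lt_of_le_of_ne (hob ▸ card_le_of_le le_sup_left) fun e => hdc ?_
    exact (eq_of_le_of_card_ge (le_sup_left : zpowers c ≤ zpowers c ⊔ zpowers d)
      (by rw [hob, ← e])) ▸ le_sup_right (a := zpowers c) (mem_zpowers d)
  interval_cases k
  · rw [hk', pow_zero] at hlt; exact absurd hlt (by have := h.prime.one_lt; omega)
  · rw [hk', pow_one] at hlt; exact absurd hlt (lt_irrefl _)
  · rw [hk', h.card]

theorem Act.eq_one_of_commute_pair [Finite X] {q : ℕ} {A G : Subgroup X} (h : Act q A G) {c d g : X}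
    (hc : c ∈ A) (hc1 : c ≠ 1) (hd : d ∈ A) (hdc : d ∉ zpowers c) (hg : g ∈ G) (hgc : Commute c g)
    (hgd : Commute d g) : g = 1 := by
  have hle : A ≤ centralizer ({g} : Set X) := by
    rw [← h.toAct0.closure_pair hc hc1 hd hdc]
    exact sup_le (zpowers_le.2 (mem_centralizer_singleton_iff.2 hgc.eq))
      (zpowers_le.2 (mem_centralizer_singleton_iff.2 hgd.eq))
  have : g ∈ G ⊓ centralizer (A : Set X) := ⟨hg, mem_centralizer_iff.2 fun a ha =>
    mem_centralizer_singleton_iff.1 (hle ha)⟩
  rwa [h.fix, mem_bot] at this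

theorem zpowers_eq_of_mem [Finite X] {q : ℕ} {A G : Subgroup X} (h : Act0 q A G) {c a : X}
    (hc : c ∈ A) (ha : a ∈ zpowers c) (ha1 : a ≠ 1) : zpowers a = zpowers c := by
  refine eq_of_le_of_card_ge (zpowers_le.2 ha) ?_
  have hc1 : c ≠ 1 := fun e => ha1 (by rw [e, zpowers_one_eq_bot, mem_bot] at ha; exact ha)
  rw [Nat.card_zpowers, Nat.card_zpowers, orderOf_eq_prime (hp := ⟨h.prime⟩) (h.expq c hc) hc1,
    orderOf_eq_prime (hp := ⟨h.prime⟩) (h.expq a (zpowers_le.2 hc ha)) ha1]

variable [Finite X] {q p s : ℕ} {A G P S : Subgroup X}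

theorem centralizes_of_fix [Fact p.Prime] (hq : q.Prime) {U E : Subgroup X} (hU : IsPGroup p U)
    {a : X} (haU : a ∈ normalizer (U : Set X)) (hEU : E ≤ normalizer (U : Set X))
    (haE : a ∈ normalizer (E : Set X)) (haq : a ^ q = 1)
    (hEp : (Nat.card E).Coprime p) (hqU : ¬ q ∣ Nat.card U) (hqE : ¬ q ∣ Nat.card E)
    (hc : ∀ x ∈ E, ∀ y ∈ E, Commute x y) (hfree : E ⊓ centralizer ({a} : Set X) = ⊥)
    (hfix : ∀ u ∈ U, Commute a u → ∀ x ∈ E, Commute x u) : E ≤ centralizer (U : Set X) := by
  let N₀ : Subgroup X := normalizer (U : Set X)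
  have hUN : U ≤ N₀ := le_normalizer
  have : (U.subgroupOf N₀).Normal := normal_subgroupOf_of_le_normalizer le_rfl
  have hback : ∀ T : Subgroup X, T ≤ N₀ → (T.subgroupOf N₀).map N₀.subtype = T := fun T hT => by
    rw [subgroupOf_map_subtype, inf_eq_left.2 hT]
  have hcard : ∀ T : Subgroup X, T ≤ N₀ → Nat.card (T.subgroupOf N₀) = Nat.card T := fun T hT =>
    Nat.card_congr (subgroupOfEquivOfLe hT).toEquiv
  have hfull : ⁅E, zpowers a⁆ = E := by
    refine CfsgLib.FixedFree.commutator_eq_of_fpf (zpowers_le.2 haE) ?_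
      (Group.isSolvable_of_comm fun x y => Subtype.ext (hc x x.2 y y.2)) ?_
    · rw [Nat.card_zpowers]
      exact (hq.coprime_iff_not_dvd.2 hqE).coprime_dvd_left (orderOf_dvd_of_pow_eq_one haq)
    · rw [centralizer_zpowers]; exact hfree
  have key := centralizes_of_fix_top (X := N₀) (p := p) hq (U := U.subgroupOf N₀)
    (E := E.subgroupOf N₀) (hU.of_equiv (subgroupOfEquivOfLe hUN).symm) (a := ⟨a, haU⟩)
    (mem_normalizer_iff.2 fun z => mem_normalizer_iff.1 haE (z : X)) (Subtype.ext haq)
    (by rw [hcard _ hEU]; exact hEp) (by rw [hcard _ hUN]; exact hqU) (by rw [hcard _ hEU]; exact hqE)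
    (fun x hx y hy u _ => by
      rw [commutatorElement_eq_one_iff_commute.2
        (Subtype.ext (hc x hx y hy).eq : Commute x y)]
      exact Commute.one_left u)
    (map_injective N₀.subtype_injective (by
      rw [map_commutator, MonoidHom.map_zpowers, hback _ hEU]
      exact hfull))
    (fun u hu hau x hx => Subtype.ext (hfix u hu (congrArg Subtype.val hau.eq) x hx).eq)
  intro x hx
  refine mem_centralizer_iff.2 fun u hu => ?_
  exact congrArg Subtype.val (mem_centralizer_iff.1 (key (show (⟨x, hEU hx⟩ : N₀) ∈ _ from hx))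
    ⟨u, hUN hu⟩ hu)

theorem Minimal.no_complement (hM : Minimal q A G) {p : ℕ} [Fact p.Prime] (hp : p ∣ Nat.card G) :
    ¬ Cfsg.HasNormalPComplement p G := by
  intro h
  have := CfsgLib.Transfer.pResidual_characteristic (G := G) (p := p)
  have hle := normalizer_le_map_characteristic (Cfsg.pResidual p G)
  rcases hM.norm ((Cfsg.pResidual p G).map G.subtype) (map_subtype_le _) (hM.act.trans hle)
    (le_normalizer.trans hle) with e | e
  · have hb := (map_eq_bot_iff_of_injective _ G.subtype_injective).1 e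
    refine hM.ns ?_
    have hG : IsPGroup p G := by
      refine IsPGroup.of_card (n := (Nat.card G).primeFactorsList.length)
        (Nat.eq_prime_pow_of_unique_prime_dvd Nat.card_pos.ne' fun {r} hr hd => ?_)
      by_contra hne
      have := Fact.mk hr
      obtain ⟨x, hx⟩ := exists_prime_orderOf_dvd_card' r hd
      have h1 : x ∈ Cfsg.pResidual p G := CfsgLib.Transfer.mem_pResidual_of_coprime
        (hx ▸ (Nat.coprime_primes hr Fact.out).2 hne)
      rw [hb, mem_bot] at h1
      rw [h1, orderOf_one] at hx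
      exact hr.ne_one hx.symm
    have := hG.isNilpotent
    infer_instance
  · have ht : Cfsg.pResidual p G = ⊤ := map_injective G.subtype_injective
      (e.trans (by rw [← MonoidHom.range_eq_map, range_subtype]))
    have h1 := (CfsgLib.Transfer.hasNormalPComplement_iff_coprime_pResidual).1 h
    rw [ht, card_top] at h1
    exact (Fact.out : p.Prime).coprime_iff_not_dvd.1 h1.symm hp

/-- For odd `p`, the fixed points of `P` avoid at most one line of `A`. -/
theorem Minimal.exists_line (hM : Minimal q A G) [hp : Fact p.Prime] (hp2 : p ≠ 2)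
    (hpG : p ∣ Nat.card G) (hP : IsSyl p A G P) :
    ∃ c ∈ A, c ≠ 1 ∧ ∀ d ∈ A, d ∉ zpowers c → P ⊓ centralizer ({d} : Set X) ≠ ⊥ := by
  have hloc : ∀ Y : Subgroup X, A ≤ normalizer (Y : Set X) → Y ≤ P → Y ≠ ⊥ →
      G ⊓ normalizer (Y : Set X) ≠ G := fun Y hAY hYP hYb e => by
    rcases hM.norm Y (hYP.trans hP.le) hAY (e.ge.trans inf_le_right) with h | h
    · exact hYb h
    · have := (hP.pgroup.to_le hYP).isNilpotent
      refine hM.ns ?_
      rw [← h]
      infer_instance
  -- a local subgroup without normal `p`-complement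
  obtain ⟨M, hMG, hMne, hAM, hMnc⟩ : ∃ M : Subgroup X, M ≤ G ∧ M ≠ G ∧ A ≤ normalizer (M : Set X) ∧
      ¬ Cfsg.HasNormalPComplement p M := by
    obtain ⟨P₀, hP₀⟩ : ∃ P₀ : Sylow p G, (P₀ : Subgroup G) = P.subgroupOf G :=
      ⟨Sylow.ofCard (P.subgroupOf G) (by
        rw [Nat.card_congr (subgroupOfEquivOfLe hP.le).toEquiv, hP.card]), rfl⟩
    have hmap : (P.subgroupOf G).map G.subtype = P := by
      rw [subgroupOf_map_subtype, inf_eq_left.2 hP.le]
    have hPb := hP.ne_bot hpG
    by_contra hall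
    push Not at hall
    refine hM.no_complement hpG
      (CfsgLib.Complement.hasNormalPComplement_of_thompson hp2 P₀ ?_ ?_)
    · set J := Cfsg.thompsonSubgroupOf p (P₀ : Subgroup G)
      have hJ : J.map G.subtype = Cfsg.thompsonSubgroupOf p P := by
        rw [CfsgLib.PLocal.thompsonOf_map_of_injOn G.subtype G.subtype_injective.injOn, hP₀, hmap]
      by_cases hNG : G ⊓ normalizer ((J.map G.subtype : Subgroup X) : Set X) = G
      · -- then `J` is normal in `G`
        exfalso
        have hAJ : A ≤ normalizer ((J.map G.subtype : Subgroup X) : Set X) := by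
          intro a ha
          rw [hJ, mem_normalizer_iff_map_conj_eq]
          exact (CfsgLib.PLocal.thompsonOf_map_conj a P).trans
            (congrArg (Cfsg.thompsonSubgroupOf p) (mem_normalizer_iff_map_conj_eq.1 (hP.inv ha)))
        have hJP : J.map G.subtype ≤ P := by
          rw [hJ]; exact map_subtype_le _
        have hJb : J.map G.subtype ≠ ⊥ := by
          rw [hJ]
          exact CfsgLib.Complement.thompsonOf_ne_bot hP.pgroup hPb
        exact hloc _ hAJ hJP hJb hNG
      · have hAJ : A ≤ normalizer ((J.map G.subtype : Subgroup X) : Set X) := by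
          intro a ha
          rw [hJ, mem_normalizer_iff_map_conj_eq]
          exact (CfsgLib.PLocal.thompsonOf_map_conj a P).trans
            (congrArg (Cfsg.thompsonSubgroupOf p) (mem_normalizer_iff_map_conj_eq.1 (hP.inv ha)))
        have h1 := hall _ inf_le_left hNG
          (le_normalizer_inf hM.act fun a ha => mem_normalizer_normalizer (hAJ ha))
        let ι : normalizer (J : Set G) →* (G ⊓ normalizer ((J.map G.subtype : Subgroup X) : Set X) : Subgroup X) :=
          (G.subtype.comp (normalizer (J : Set G)).subtype).codRestrict _ fun x =>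
            ⟨(x : G).2, le_normalizer_map G.subtype (mem_map_of_mem _ x.2)⟩
        exact CfsgLib.Transfer.hasNormalPComplement_of_injective ι
          (fun x y e => Subtype.ext (Subtype.ext (by have := congrArg Subtype.val e; exact this))) h1
    · set Z := P ⊓ centralizer (P : Set X)
      have hAZ : A ≤ normalizer (Z : Set X) :=
        le_normalizer_inf hP.inv (hP.inv.trans (normalizer_le_normalizer_centralizer P))
      have hZb : Z ≠ ⊥ := by
        have : Nontrivial P := (nontrivial_iff_ne_bot P).2 hPb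
        have : Nontrivial (center P) := hP.pgroup.center_nontrivial
        obtain ⟨z, hz1⟩ := exists_ne (1 : center P)
        intro hbot
        have : ((z : P) : X) ∈ Z := ⟨(z : P).2, mem_centralizer_iff.2 fun g hg =>
          congrArg Subtype.val (mem_center_iff.1 z.2 ⟨g, hg⟩)⟩
        rw [hbot, mem_bot] at this
        exact hz1 (Subtype.ext (Subtype.ext this))
      have hle : G ⊓ centralizer (Z : Set X) ≤ G ⊓ normalizer (Z : Set X) :=
        inf_le_inf_left _ (centralizer_le_normalizer _)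
      have hne : G ⊓ centralizer (Z : Set X) ≠ G := fun e =>
        hloc Z hAZ inf_le_left hZb (le_antisymm inf_le_left (e.ge.trans hle))
      have h1 := hall _ inf_le_left hne
        (le_normalizer_inf hM.act (hAZ.trans (normalizer_le_normalizer_centralizer Z)))
      let ι : centralizer ((((P₀ : Subgroup G) ⊓ centralizer ((P₀ : Subgroup G) : Set G) : Subgroup G)) : Set G)
          →* (G ⊓ centralizer (Z : Set X) : Subgroup X) :=
        (G.subtype.comp (Subgroup.subtype _)).codRestrict _ fun x =>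
          ⟨(x : G).2, mem_centralizer_iff.2 fun z hz => congrArg Subtype.val
            (mem_centralizer_iff.1 x.2 (⟨z, hP.le hz.1⟩ : G) ⟨hP₀.symm ▸ (hz.1 : z ∈ P),
              mem_centralizer_iff.2 fun w hw => Subtype.ext
                (mem_centralizer_iff.1 hz.2 (w : X) (by rw [hP₀] at hw; exact hw))⟩)⟩
      exact CfsgLib.Transfer.hasNormalPComplement_of_injective ι
        (fun x y e => Subtype.ext (Subtype.ext (by have := congrArg Subtype.val e; exact this))) h1
  -- an invariant Hall subgroup moving `O_p(M)`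
  have hsolM := hM.sub M hMG hMne hAM
  have hact := hM.toAct.mono hMG hAM
  set R : Subgroup X := (Cfsg.pPrimeCore p M).map M.subtype with hR
  have hRn : normalizer (M : Set X) ≤ normalizer (R : Set X) := by
    have := CfsgLib.Solvable.pPrimeCore_characteristic p M
    exact normalizer_le_map_characteristic _
  have hRcop : (Nat.card R).Coprime p := by
    rw [hR, card_map_of_injective M.subtype_injective]
    exact CfsgLib.Comp.coprime_card_pPrimeCore p M
  obtain ⟨H, hH, hAH, hRH⟩ := CfsgLib.Coprime.exists_invariant_hall_ge hact.act hact.coprime hsolM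
    (map_subtype_le _ : R ≤ M) (hAM.trans hRn) (π := {r | r ≠ p})
    (fun r hr hd e => (Nat.Prime.coprime_iff_not_dvd hp.out).1 hRcop.symm (e ▸ hd))
  have hHp : (Nat.card H).Coprime p := (Nat.Prime.coprime_iff_not_dvd hp.out).2
    (fun hd => hH.2.1 p hp.out hd rfl) |>.symm
  set Q := pCoreIn p M
  have hAQ : A ≤ normalizer (Q : Set X) := hAM.trans (MaxTwo.self_le_normalizer_pCoreIn p M)
  have hHQ : H ≤ normalizer (Q : Set X) :=
    hH.1.trans (le_normalizer.trans (MaxTwo.self_le_normalizer_pCoreIn p M))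
  have hHact := hact.mono hH.1 hAH
  obtain ⟨c, hc, hc1, hnot⟩ : ∃ c ∈ A, c ≠ 1 ∧
      ¬ H ⊓ centralizer ({c} : Set X) ≤ centralizer (Q : Set X) := by
    by_contra hall
    push Not at hall
    have hcent : H ≤ centralizer (Q : Set X) :=
      hHact.iSup_eq.ge.trans (iSup_le fun ⟨a, ha, ha1⟩ => hall a ha ha1)
    refine hMnc ?_
    have hF : ⁅M, M⁆ ≤ Q ⊔ R := by
      have hle : ⁅M, M⁆ ≤ M := commutator_le.2 fun x hx y hy =>
        mul_mem (mul_mem (mul_mem hx hy) (inv_mem hx)) (inv_mem hy)
      have hn : ((⁅M, M⁆ : Subgroup X).subgroupOf M).Normal :=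
        normal_subgroupOf_of_le_normalizer (fun g hg => by
          rw [mem_normalizer_iff_map_conj_eq, map_commutator,
            mem_normalizer_iff_map_conj_eq.1 (le_normalizer hg)])
      have hF := CfsgLib.Solvable.le_fittingSubgroup hn
        (have := isNilpotent_commutator hact hsolM
         Group.nilpotent_of_mulEquiv (subgroupOfEquivOfLe hle).symm)
      have hFle : Cfsg.fittingSubgroup M ≤ Cfsg.pCore p M ⊔ Cfsg.pPrimeCore p M := by
        rw [CfsgLib.Solvable.fittingSubgroup_eq_iSup_pCore]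
        refine iSup_le fun ⟨r, hr⟩ => ?_
        by_cases hrp : r = p
        · subst hrp; exact le_sup_left
        · refine le_sup_of_le_right (CfsgLib.Solvable.le_pPrimeCore
            (CfsgLib.Solvable.pCore_normal r M) ?_)
          have := Fact.mk hr
          obtain ⟨i, hi⟩ := IsPGroup.iff_card.1 (CfsgLib.Solvable.pCore_isPGroup (G := M) r)
          rw [hi]
          exact ((Nat.coprime_primes hr hp.out).2 hrp).pow_left i
      intro x hx
      have := mem_map_of_mem M.subtype
        (hFle (hF (show (⟨x, hle hx⟩ : M) ∈ (⁅M, M⁆ : Subgroup X).subgroupOf M from hx)))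
      rw [Subgroup.map_sup] at this
      exact this
    have hHn : ∀ k ∈ M, ∀ x ∈ H, k * x * k⁻¹ ∈ H := by
      intro k hk x hx
      have h1 : k * x * k⁻¹ ∈ H ⊔ Q := by
        have h2 : ⁅k, x⁆ ∈ H ⊔ Q := sup_le le_sup_right (hRH.trans le_sup_left)
          (hF (commutator_mem_commutator hk (hH.1 hx)))
        have := mul_mem h2 (le_sup_left (b := Q) hx)
        rwa [commutatorElement_def, inv_mul_cancel_right] at this
      rw [← SetLike.mem_coe, coe_mul_of_left_le_normalizer_right H Q hHQ] at h1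
      obtain ⟨h₀, hh₀, q₀, hq₀, e⟩ := Set.mem_mul.1 h1
      have hcm : Commute q₀ h₀ := mem_centralizer_iff.1 (hcent hh₀) q₀ hq₀
      have h3 : (k * x * k⁻¹) ^ Nat.card H = 1 := by
        rw [conj_pow, show x ^ Nat.card H = 1 from congrArg Subtype.val
          (pow_card_eq_one' (x := (⟨x, hx⟩ : H))), mul_one, mul_inv_cancel]
      have h4 : h₀ ^ Nat.card H = 1 := congrArg Subtype.val (pow_card_eq_one' (x := (⟨h₀, hh₀⟩ : H)))
      have h5 : q₀ ^ Nat.card H = 1 := by
        rw [← e, hcm.symm.mul_pow, h4, one_mul] at h3; exact h3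
      obtain ⟨i, hi⟩ := pCoreIn_isPGroup p M ⟨q₀, hq₀⟩
      have h6 := pow_gcd_eq_one.2 ⟨h5, show q₀ ^ p ^ i = 1 from congrArg Subtype.val hi⟩
      rw [(hHp.pow_right i).gcd_eq_one, pow_one] at h6
      rw [h6, mul_one] at e
      exact e ▸ hh₀
    have hn : (H.subgroupOf M).Normal := ⟨fun x hx k => hHn k k.2 x hx⟩
    refine CfsgLib.Transfer.hasNormalPComplement_iff_exists.2 ⟨H.subgroupOf M, hn, ?_, ?_⟩
    · rwa [Nat.card_congr (subgroupOfEquivOfLe hH.1).toEquiv]
    · refine IsPGroup.of_card (n := (Nat.card (M ⧸ H.subgroupOf M)).primeFactorsList.length)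
        (Nat.eq_prime_pow_of_unique_prime_dvd Nat.card_pos.ne' fun {r} hr hd => ?_)
      by_contra hne
      exact hH.2.2 r hr hne hd
  refine ⟨c, hc, hc1, fun d hd hdc hbot => hnot ?_⟩
  set E := H ⊓ centralizer ({c} : Set X)
  have hEG : E ≤ G := inf_le_left.trans (hH.1.trans hMG)
  have hdE : d ∈ normalizer (E : Set X) :=
    le_normalizer_inf hAH (le_normalizer_centralizer_singleton hM.comm hc) hd
  refine centralizes_of_fix (p := p) hM.prime (pCoreIn_isPGroup p M) (hAQ hd)
    (inf_le_left.trans hHQ) hdE (hM.expq d hd) (hHp.coprime_dvd_left (card_dvd_of_le inf_le_left))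
    (fun h => hM.cop (h.trans (card_dvd_of_le ((pCoreIn_le p M).trans hMG))))
    (fun h => hM.cop (h.trans (card_dvd_of_le hEG)))
    (fun x hx y hy => hM.ab c hc hc1 x (hEG hx) y (hEG hy)
      (mem_centralizer_singleton_iff.1 hx.2).symm (mem_centralizer_singleton_iff.1 hy.2).symm)
    (eq_bot_iff.2 fun x hx => mem_bot.2 (hM.toAct.eq_one_of_commute_pair hc hc1 hd hdc (hEG hx.1)
      (mem_centralizer_singleton_iff.1 hx.1.2).symm (mem_centralizer_singleton_iff.1 hx.2).symm))
    (fun u hu hdu x _ => ?_)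
  have : u ∈ P ⊓ centralizer ({d} : Set X) :=
    ⟨hP.max Q ((pCoreIn_le p M).trans hMG) hAQ (pCoreIn_isPGroup p M) hu,
      mem_centralizer_singleton_iff.2 hdu.symm.eq⟩
  rw [hbot, mem_bot] at this
  rw [this]
  exact Commute.one_right x

/-- A Sylow subgroup is not centralised by a nontrivial element of `A`. -/
theorem Minimal.not_le_centralizer (hM : Minimal q A G) [Fact s.Prime] (hsG : s ∣ Nat.card G)
    (hS : IsSyl s A G S) {c : X} (hc : c ∈ A) (hc1 : c ≠ 1) :
    ¬ S ≤ centralizer ({c} : Set X) := by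
  intro hle
  set M := G ⊓ normalizer (S : Set X)
  have hAM : A ≤ normalizer (M : Set X) :=
    le_normalizer_inf hM.act fun a ha => mem_normalizer_normalizer (hS.inv ha)
  have hcS : ∀ x ∈ S, Commute c x := fun x hx => (mem_centralizer_singleton_iff.1 (hle hx)).symm
  have hB : zpowers c ≤ normalizer (M : Set X) := zpowers_le.2 (hAM hc)
  have hMc : M ≤ centralizer (S : Set X) := by
    rw [← CfsgLib.Coprime.commutator_sup_centralizer hB
      ((hM.toAct.coprime_zpowers hc).coprime_dvd_right (card_dvd_of_le inf_le_left))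
      (Or.inl inferInstance)]
    refine sup_le (commutator_le.2 fun n hn b hb => mem_centralizer_iff.2 fun x hx => ?_) fun g hg =>
      mem_centralizer_iff.2 fun x hx => (hM.ab c hc hc1 x (hS.le hx) g hg.1.1 (hcS x hx)
        (mem_centralizer_zpowers.1 hg.2)).eq
    have hbS : ∀ y ∈ S, Commute b y := fun y hy => by
      obtain ⟨i, rfl⟩ := mem_zpowers_iff.1 hb
      exact (hcS y hy).zpow_left i
    have h1 : n⁻¹ * x * n ∈ S := (mem_normalizer_iff''.1 hn.2 x).1 hx
    have h2 : Commute (n * b * n⁻¹) x := by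
      show n * b * n⁻¹ * x = x * (n * b * n⁻¹)
      calc n * b * n⁻¹ * x = n * (b * (n⁻¹ * x * n)) * n⁻¹ := by group
        _ = n * ((n⁻¹ * x * n) * b) * n⁻¹ := by rw [(hbS _ h1).eq]
        _ = x * (n * b * n⁻¹) := by group
    exact ((h2.mul_left (hbS x hx).inv_left).eq).symm.trans (by rw [commutatorElement_def])
  obtain ⟨S₀, hS₀⟩ : ∃ S₀ : Sylow s G, (S₀ : Subgroup G) = S.subgroupOf G :=
    ⟨Sylow.ofCard (S.subgroupOf G) (by
      rw [Nat.card_congr (subgroupOfEquivOfLe hS.le).toEquiv, hS.card]), rfl⟩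
  refine hM.no_complement hsG
    (CfsgLib.Transfer.hasNormalPComplement_of_normalizer_le_centralizer S₀ fun g hg => ?_)
  rw [hS₀] at hg ⊢
  have hgS : (g : X) ∈ normalizer (S : Set X) := mem_normalizer_iff.2 fun z => by
    constructor
    · intro hz
      exact (mem_normalizer_iff.1 hg ⟨z, hS.le hz⟩).1 hz
    · intro hz
      have hzG : z ∈ G := by
        have := mul_mem (mul_mem (inv_mem g.2) (hS.le hz)) g.2
        simpa [mul_assoc] using this
      exact (mem_normalizer_iff.1 hg ⟨z, hzG⟩).2 hz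
  exact mem_centralizer_iff.2 fun z hz =>
    Subtype.ext (mem_centralizer_iff.1 (hMc ⟨g.2, hgS⟩) (z : X) hz)

theorem centralizer_eq_of_mem {c a : X} (h : zpowers a = zpowers c) :
    centralizer ({a} : Set X) = centralizer ({c} : Set X) := by
  rw [← centralizer_zpowers, h, centralizer_zpowers]

/-- A normalising part forces a single line. -/
theorem Minimal.single_line (hM : Minimal q A G) [Fact p.Prime] [Fact s.Prime] (hps : p ≠ s)
    (hP : IsSyl p A G P) (hS : IsSyl s A G S) (hperm : ¬ Perm p s A G P S)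
    (hR : S ⊓ normalizer (P : Set X) ≠ ⊥) :
    ∃ c ∈ A, c ≠ 1 ∧ S ≤ centralizer ({c} : Set X) := by
  set R := S ⊓ normalizer (P : Set X)
  have hAR : A ≤ normalizer (R : Set X) :=
    le_normalizer_inf hS.inv fun a ha => mem_normalizer_normalizer (hP.inv ha)
  have hsp : ∀ T : Subgroup X, T ≤ S → (Nat.card T).Coprime p := fun T hT => by
    obtain ⟨j, hj⟩ := IsPGroup.iff_card.1 (hS.pgroup.to_le hT)
    rw [hj]
    exact ((Nat.coprime_primes Fact.out Fact.out).2 hps.symm).pow_left j
  -- faithful on `P`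
  set C₁ := S ⊓ centralizer (P : Set X) with hC₁def
  have hC₁ : C₁ = ⊥ := by
    have hAC : A ≤ normalizer (C₁ : Set X) :=
      le_normalizer_inf hS.inv (hP.inv.trans (normalizer_le_normalizer_centralizer P))
    have hCP : C₁ ≤ normalizer (P : Set X) := inf_le_right.trans (centralizer_le_normalizer _)
    obtain ⟨K, hK, hYK⟩ := exists_maxTwo (p := p) (s := s) (G := G) (U := C₁ ⊔ P)
      (sup_le (inf_le_left.trans hS.le) hP.le)
      (fun a ha => by
        rw [mem_normalizer_iff_map_conj_eq, Subgroup.map_sup, mem_normalizer_iff_map_conj_eq.1 (hAC ha),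
          mem_normalizer_iff_map_conj_eq.1 (hP.inv ha)])
      (IsTwo.isTwo_sup_of_commute hP.pgroup (hS.pgroup.to_le inf_le_left) hCP)
    have hPK : P ≤ K := le_sup_right.trans hYK
    by_contra hne
    have hKb : K ≠ ⊥ := fun e => hne (le_bot_iff.1 ((le_sup_left.trans hYK).trans e.le))
    by_cases hU : pCoreIn p K = ⊥
    · exact hperm ⟨K, hK.le, hK.inv, hK.two, hPK,
        (hK.eq_sylow_of_core_eq_bot hM hP hS hps hKb hU).ge.trans (pCoreIn_le s K)⟩
    by_cases hW : pCoreIn s K = ⊥
    · refine hne (le_bot_iff.1 ?_)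
      refine le_trans (fun x hx => ?_) ((hK.inf_centralizer_le hM hS hps).trans hW.le)
      exact ⟨⟨hYK (le_sup_left (b := P) hx), hx.1⟩, centralizer_le
        (hP.max _ ((pCoreIn_le p K).trans hK.le)
          (hK.inv.trans (MaxTwo.self_le_normalizer_pCoreIn p K)) (pCoreIn_isPGroup p K)) hx.2⟩
    exact hperm ⟨K, hK.le, hK.inv, hK.two, hPK, hK.sylow_le_of_cores_ne_bot hM hS hps
      (fun h => hM.cop (h.trans (card_dvd_of_le hK.le))) hU hW⟩
  have hRT : ∀ x ∈ R, ∀ y ∈ P ⊓ normalizer (S : Set X), Commute x y := by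
    intro x hx y hy
    have hd : Disjoint P S := IsPGroup.disjoint_of_ne p s hps _ _ hP.pgroup hS.pgroup
    have h1 : x * y * x⁻¹ * y⁻¹ ∈ P := mul_mem ((mem_normalizer_iff.1 hx.2 y).1 hy.1) (inv_mem hy.1)
    have h2 : x * y * x⁻¹ * y⁻¹ ∈ S := by
      have := mul_mem hx.1 ((mem_normalizer_iff.1 hy.2 x⁻¹).1 (inv_mem hx.1))
      simpa [mul_assoc] using this
    exact commutatorElement_eq_one_iff_commute.1 (Subgroup.disjoint_def.1 hd h1 h2)
  -- for `c` with a fixed point in `R`, the other lines only meet `S` inside `R`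
  have key : ∀ c ∈ A, c ≠ 1 → R ⊓ centralizer ({c} : Set X) ≠ ⊥ → ∀ d ∈ A, d ∉ zpowers c →
      S ⊓ centralizer ({d} : Set X) ≤ normalizer (P : Set X) := by
    intro c hc hc1 hE d hd hdc
    set E := R ⊓ centralizer ({c} : Set X)
    have hEG : E ≤ G := inf_le_left.trans (inf_le_left.trans hS.le)
    have hd1 : d ≠ 1 := fun e => hdc (e ▸ one_mem _)
    set Yp := P ⊓ centralizer ({d} : Set X)
    set Ys := S ⊓ centralizer ({d} : Set X)
    have hAC := le_normalizer_centralizer_singleton hM.comm hd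
    have hcm : Ys ≤ normalizer (Yp : Set X) := by
      refine (fun x hx => centralizer_le_normalizer _ (mem_centralizer_iff.2 fun y hy => ?_))
      exact (hM.ab d hd hd1 y (hP.le hy.1) x (hS.le hx.1) (mem_centralizer_singleton_iff.1 hy.2).symm
        (mem_centralizer_singleton_iff.1 hx.2).symm).eq
    rcases le_normalizer_or hM hP hS hps hperm (Y := Ys ⊔ Yp)
      (sup_le (inf_le_left.trans hS.le) (inf_le_left.trans hP.le))
      (fun a ha => by
        rw [mem_normalizer_iff_map_conj_eq, Subgroup.map_sup,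
          mem_normalizer_iff_map_conj_eq.1 (le_normalizer_inf hS.inv hAC ha),
          mem_normalizer_iff_map_conj_eq.1 (le_normalizer_inf hP.inv hAC ha)])
      (IsTwo.isTwo_sup_of_commute (hP.pgroup.to_le inf_le_left) (hS.pgroup.to_le inf_le_left) hcm)
      with h | h
    · exfalso
      refine hE (le_bot_iff.1 (le_trans (le_inf (inf_le_left.trans inf_le_left) ?_) hC₁.le))
      exact centralizes_of_fix (p := p) hM.prime hP.pgroup (hP.inv hd) (inf_le_left.trans inf_le_right)
        (le_normalizer_inf hAR (le_normalizer_centralizer_singleton hM.comm hc) hd) (hM.expq d hd)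
        (hsp _ (inf_le_left.trans inf_le_left))
        (fun h => hM.cop (h.trans (card_dvd_of_le hP.le)))
        (fun h => hM.cop (h.trans (card_dvd_of_le hEG)))
        (fun x hx y hy => hM.ab c hc hc1 x (hEG hx) y (hEG hy)
          (mem_centralizer_singleton_iff.1 hx.2).symm (mem_centralizer_singleton_iff.1 hy.2).symm)
        (eq_bot_iff.2 fun x hx => mem_bot.2 (hM.toAct.eq_one_of_commute_pair hc hc1 hd hdc (hEG hx.1)
          (mem_centralizer_singleton_iff.1 hx.1.2).symm (mem_centralizer_singleton_iff.1 hx.2).symm))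
        (fun u hu hdu x hx => hRT x hx.1 u
          ⟨hu, h (le_sup_right (a := Ys) ⟨hu, mem_centralizer_singleton_iff.2 hdu.symm.eq⟩)⟩)
    · exact le_sup_left.trans h
  have hactR := hM.toAct.mono (inf_le_left.trans hS.le : R ≤ G) hAR
  obtain ⟨c, hc, hc1, hE⟩ : ∃ c ∈ A, c ≠ 1 ∧ R ⊓ centralizer ({c} : Set X) ≠ ⊥ := by
    by_contra hall
    push Not at hall
    exact hR (le_bot_iff.1 (hactR.iSup_eq.ge.trans (iSup_le fun ⟨a, ha, ha1⟩ => (hall a ha ha1).le)))
  refine ⟨c, hc, hc1, ?_⟩
  have hactS := hM.toAct.mono hS.le hS.inv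
  by_cases hsingle : ∀ d ∈ A, d ∉ zpowers c → S ⊓ centralizer ({d} : Set X) = ⊥
  · refine hactS.iSup_eq.ge.trans (iSup_le fun ⟨a, ha, ha1⟩ => ?_)
    by_cases hac : a ∈ zpowers c
    · exact inf_le_right.trans (centralizer_eq_of_mem (zpowers_eq_of_mem hM.toAct0 hc hac ha1)).le
    · exact (hsingle a ha hac).le.trans bot_le
  exfalso
  push Not at hsingle
  obtain ⟨d, hd, hdc, hne⟩ := hsingle
  have hd1 : d ≠ 1 := fun e => hdc (e ▸ one_mem _)
  have hEd : R ⊓ centralizer ({d} : Set X) ≠ ⊥ := fun e => hne (le_bot_iff.1 (le_trans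
    (le_inf (le_inf inf_le_left (key c hc hc1 hE d hd hdc)) inf_le_right) e.le))
  have hcd : c ∉ zpowers d := fun h =>
    hdc ((zpowers_eq_of_mem hM.toAct0 hd h hc1).ge (mem_zpowers d))
  have hSN : S ≤ normalizer (P : Set X) := hactS.iSup_eq.ge.trans (iSup_le fun ⟨a, ha, ha1⟩ => by
    by_cases hac : a ∈ zpowers c
    · refine le_of_eq_of_le ?_ (key d hd hd1 hEd c hc hcd)
      rw [centralizer_eq_of_mem (zpowers_eq_of_mem hM.toAct0 hc hac ha1)]
    · exact key c hc hc1 hE a ha hac)
  exact hperm ⟨S ⊔ P, sup_le hS.le hP.le, fun a ha => by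
      rw [mem_normalizer_iff_map_conj_eq, Subgroup.map_sup, mem_normalizer_iff_map_conj_eq.1 (hS.inv ha),
        mem_normalizer_iff_map_conj_eq.1 (hP.inv ha)],
    IsTwo.isTwo_sup_of_commute hP.pgroup hS.pgroup hSN, le_sup_right, le_sup_left⟩

/-- **The invariant Sylow subgroups permute.** -/
theorem Minimal.perm_of_odd (hM : Minimal q A G) [Fact p.Prime] [Fact s.Prime] (hps : p ≠ s)
    (hp2 : p ≠ 2) (hpG : p ∣ Nat.card G) (hsG : s ∣ Nat.card G) (hP : IsSyl p A G P)
    (hS : IsSyl s A G S) : Perm p s A G P S := by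
  by_contra hperm
  have hR : S ⊓ normalizer (P : Set X) = ⊥ := by
    by_contra h
    obtain ⟨c, hc, hc1, hle⟩ := hM.single_line hps hP hS hperm h
    exact hM.not_le_centralizer hsG hS hc hc1 hle
  have hT : P ⊓ normalizer (S : Set X) = ⊥ := by
    by_contra h
    obtain ⟨c, hc, hc1, hle⟩ := hM.single_line hps.symm hS hP (fun h' => hperm h'.symm) h
    exact hM.not_le_centralizer hpG hP hc hc1 hle
  obtain ⟨c, hc, hc1, hline⟩ := hM.exists_line hp2 hpG hP
  refine hM.not_le_centralizer hsG hS hc hc1 ?_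
  refine (hM.toAct.mono hS.le hS.inv).iSup_eq.ge.trans (iSup_le fun ⟨a, ha, ha1⟩ => ?_)
  by_cases hac : a ∈ zpowers c
  · exact inf_le_right.trans (centralizer_eq_of_mem (zpowers_eq_of_mem hM.toAct0 hc hac ha1)).le
  have hAC := le_normalizer_centralizer_singleton hM.comm ha
  have hcm : S ⊓ centralizer ({a} : Set X) ≤
      normalizer ((P ⊓ centralizer ({a} : Set X) : Subgroup X) : Set X) := by
    refine (fun x hx => centralizer_le_normalizer _ (mem_centralizer_iff.2 fun y hy => ?_))
    exact (hM.ab a ha ha1 y (hP.le hy.1) x (hS.le hx.1) (mem_centralizer_singleton_iff.1 hy.2).symm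
      (mem_centralizer_singleton_iff.1 hx.2).symm).eq
  rcases le_normalizer_or hM hP hS hps hperm
    (Y := (S ⊓ centralizer ({a} : Set X)) ⊔ (P ⊓ centralizer ({a} : Set X)))
    (sup_le (inf_le_left.trans hS.le) (inf_le_left.trans hP.le))
    (fun b hb => by
      rw [mem_normalizer_iff_map_conj_eq, Subgroup.map_sup,
        mem_normalizer_iff_map_conj_eq.1 (le_normalizer_inf hS.inv hAC hb),
        mem_normalizer_iff_map_conj_eq.1 (le_normalizer_inf hP.inv hAC hb)])
    (IsTwo.isTwo_sup_of_commute (hP.pgroup.to_le inf_le_left) (hS.pgroup.to_le inf_le_left) hcm)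
    with h | h
  · exact absurd (le_bot_iff.1 ((le_inf inf_le_left (le_sup_right.trans h)).trans hT.le))
      (hline a ha hac)
  · exact ((le_inf inf_le_left (le_sup_left.trans h)).trans hR.le).trans bot_le

end CfsgLib.Invol.AbelianFix
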