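import Mathlib

/-!
# Coprime action on an elementary abelian group: fixed points generate

Let `E` be an abelian group of automorphisms of the elementary abelian `p`-group `V`, normalised by
an automorphism `a` of prime order `q` which centralises no element of `E`. Then `V` is generated by
the fixed points of `E` and the translates of the fixed points of `a`; an automorphism commuting
with `a` which fixes the fixed points of `a` centralises `E`.
-/

set_option autoImplicit false

namespace CfsgLib.Invol.AbelianFix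

open Subgroup Finset

section Orbit

variable {E L : Type*} [Group E] [Field L]

theorem comp_pow_fix {χ : E →* L} {τ : MulAut E} {q : ℕ} (hτ : τ ^ q = 1) (hq : q.Prime) {i : ℕ}
    (hi : ¬ q ∣ i) (h : ∀ z, χ ((τ ^ i) z) = χ z) (z : E) : χ (τ z) = χ z := by
  have hit : ∀ (k : ℕ) (z : E), χ (((τ ^ i) ^ k) z) = χ z := by
    intro k
    induction k with
    | zero => intro z; simp
    | succ k ih => intro z; rw [pow_succ, MulAut.mul_apply, ih, h]
  obtain ⟨m, -, hm⟩ := Nat.exists_mul_mod_eq_one_of_coprime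
    ((hq.coprime_iff_not_dvd.2 hi).symm) hq.one_lt
  have e : (τ ^ i) ^ m = τ := by
    rw [← pow_mul, ← Nat.mod_add_div (i * m) q, hm, pow_add, pow_mul τ q, hτ, one_pow, mul_one,
      pow_one]
  have := hit m z
  rwa [e] at this

/-- If two orbit sums of a multiplicative character agree, so do the orbits. -/
theorem orbit_eq {χ : E →* L} {σ τ : MulAut E} {q n : ℕ} (hq : q.Prime) (hτ : τ ^ q = 1)
    (hστ : Commute σ τ) (hσ : σ ^ n = 1) (hn : n.Coprime q) (hqL : (q : L) ≠ 0)
    (h : ∀ z, ∑ i ∈ range q, χ ((τ ^ i) (σ z)) = ∑ i ∈ range q, χ ((τ ^ i) z)) (z : E) :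
    χ (σ z) = χ z := by
  classical
  let c : ℕ → (E →* L) := fun i => χ.comp (τ ^ i).toMonoidHom
  let d : ℕ → (E →* L) := fun i => χ.comp (τ ^ i * σ).toMonoidHom
  by_cases hex : ∃ i ∈ range q, d i = χ
  · obtain ⟨i, hi, hd⟩ := hex
    have h1 : ∀ z, χ ((τ ^ i) (σ z)) = χ z := fun z => DFunLike.congr_fun hd z
    by_cases hfix : ∀ z, χ (τ z) = χ z
    · have hall : ∀ (k : ℕ) (z : E), χ ((τ ^ k) z) = χ z := by
        intro k
        induction k with
        | zero => intro z; simp
        | succ k ih => intro z; rw [pow_succ, MulAut.mul_apply, ih, hfix]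
      rw [← h1 z, hall]
    · have hit : ∀ (k : ℕ) (z : E), χ (((τ ^ i * σ) ^ k) z) = χ z := by
        intro k
        induction k with
        | zero => intro z; simp
        | succ k ih => intro z; rw [pow_succ, MulAut.mul_apply, ih, MulAut.mul_apply, h1]
      have hin : q ∣ i * n := by
        by_contra hnd
        refine hfix fun z => comp_pow_fix hτ hq hnd (fun w => ?_) z
        have := hit n w
        rwa [((hστ.symm).pow_left i).mul_pow, hσ, mul_one, ← pow_mul] at this
      have hqi : q ∣ i := (hn.symm).dvd_of_dvd_mul_right hin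
      have : i = 0 := Nat.eq_zero_of_dvd_of_lt hqi (mem_range.1 hi)
      rw [← h1 z, this, pow_zero, MulAut.one_apply]
  · exfalso
    push Not at hex
    let T : Finset (E →* L) := (range q).image c ∪ (range q).image d
    let g : (E →* L) → L := fun f =>
      (((range q).filter fun i => c i = f).card : L) - (((range q).filter fun i => d i = f).card : L)
    have hfib : ∀ (k : ℕ → (E →* L)), (∀ i ∈ range q, k i ∈ T) → ∀ z : E,
        ∑ f ∈ T, (((range q).filter fun i => k i = f).card : L) * f z = ∑ i ∈ range q, k i z := by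
      intro k hk z
      rw [← sum_fiberwise_of_maps_to hk (fun i => k i z)]
      refine sum_congr rfl fun f _ => ?_
      have e : ∀ i ∈ (range q).filter (fun i => k i = f), k i z = f z := fun i hi => by
        rw [(mem_filter.1 hi).2]
      rw [sum_congr rfl e, sum_const, nsmul_eq_mul]
    have hzero : ∑ f ∈ T, g f • (f : E → L) = 0 := by
      funext z
      simp only [Finset.sum_apply, Pi.smul_apply, smul_eq_mul, Pi.zero_apply, g, sub_mul,
        sum_sub_distrib]
      rw [hfib c (fun i hi => mem_union_left _ (mem_image_of_mem c hi)) z,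
        hfib d (fun i hi => mem_union_right _ (mem_image_of_mem d hi)) z]
      exact sub_eq_zero.2 (h z).symm
    have hc0 : c 0 = χ := MonoidHom.ext fun z => by simp [c]
    have hT : χ ∈ T := hc0 ▸ mem_union_left _ (mem_image_of_mem c (mem_range.2 hq.pos))
    have hg := linearIndependent_iff'.1 (linearIndependent_monoidHom E L) T g hzero χ hT
    have hd0 : ((range q).filter fun i => d i = χ).card = 0 :=
      card_eq_zero.2 (filter_eq_empty_iff.2 fun i hi => hex i hi)
    simp only [g, hd0, Nat.cast_zero, sub_zero] at hg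
    by_cases hfix : ∀ z, χ (τ z) = χ z
    · have hall : ∀ (k : ℕ) (z : E), χ ((τ ^ k) z) = χ z := by
        intro k
        induction k with
        | zero => intro z; simp
        | succ k ih => intro z; rw [pow_succ, MulAut.mul_apply, ih, hfix]
      rw [filter_true_of_mem (fun i _ => MonoidHom.ext (hall i)), card_range] at hg
      exact hqL hg
    · have : ((range q).filter fun i => c i = χ) = {0} := by
        refine eq_singleton_iff_unique_mem.2 ⟨mem_filter.2 ⟨mem_range.2 hq.pos, hc0⟩, fun i hi => ?_⟩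
        obtain ⟨hir, hic⟩ := mem_filter.1 hi
        by_contra hi0
        refine hfix fun w => comp_pow_fix hτ hq (fun hd => hi0 ?_) (fun v => DFunLike.congr_fun hic v) w
        exact Nat.eq_zero_of_dvd_of_lt hd (mem_range.1 hir)
      rw [this, card_singleton, Nat.cast_one] at hg
      exact one_ne_zero hg

end Orbit

/-- The same in a finite commutative ring of characteristic `p` prime to the order of the group. -/
theorem ring_orbit_eq {R E : Type*} [CommRing R] [Finite R] [Group E] {p q n : ℕ}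
    (hp : p.Prime) (hpR : (p : R) = 0) (hq : q.Prime) (hpq : p ≠ q)
    (hE : (Nat.card E).Coprime p) (ρ : E →* R) {σ τ : MulAut E} (hτ : τ ^ q = 1)
    (hστ : Commute σ τ) (hσ : σ ^ n = 1) (hn : n.Coprime q)
    (h : ∀ z, ∑ i ∈ range q, ρ ((τ ^ i) (σ z)) = ∑ i ∈ range q, ρ ((τ ^ i) z)) (z : E) :
    ρ (σ z) = ρ z := by
  rcases subsingleton_or_nontrivial R with hR | hR
  · exact Subsingleton.elim _ _
  have := Fact.mk hp
  have : CharP R p := CharP.charP_iff_prime_eq_zero hp |>.2 hpR
  have hnil : IsNilpotent (ρ (σ z * z⁻¹) - 1) := by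
    refine nilpotent_iff_mem_prime.2 fun J hJ => ?_
    have : IsDomain (R ⧸ J) := Ideal.Quotient.isDomain J
    have : Finite (R ⧸ J) := Finite.of_surjective _ Ideal.Quotient.mk_surjective
    let _ : Field (R ⧸ J) := (Finite.isField_of_domain (R ⧸ J)).toField
    have hqL : (q : R ⧸ J) ≠ 0 := by
      intro e
      have hp0 : (p : R ⧸ J) = 0 := by
        rw [← map_natCast (Ideal.Quotient.mk J) p, hpR, map_zero]
      have hb := Nat.gcd_eq_gcd_ab p q
      rw [(Nat.coprime_primes hp hq).2 hpq] at hb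
      have hb' := congrArg (fun m : ℤ => ((m : ℤ) : R ⧸ J)) hb
      simp [hp0, e] at hb'
    let χ : E →* R ⧸ J := (Ideal.Quotient.mk J).toMonoidHom.comp ρ
    have h1 : χ (σ z) = χ z := orbit_eq (χ := χ) hq hτ hστ hσ hn hqL (fun w => by
      have := congrArg (Ideal.Quotient.mk J) (h w)
      rw [map_sum, map_sum] at this
      exact this) z
    refine (Ideal.Quotient.eq_zero_iff_mem).1 ?_
    rw [map_sub, map_one, sub_eq_zero]
    show χ (σ z * z⁻¹) = 1
    rw [map_mul, h1, ← map_mul, mul_inv_cancel, map_one]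
  obtain ⟨k, hk⟩ := hnil
  have h2 : ρ (σ z * z⁻¹) ^ p ^ k = 1 := by
    rw [← sub_eq_zero, ← one_pow (p ^ k), ← sub_pow_char_pow]
    exact pow_eq_zero_of_le (Nat.lt_pow_self hp.one_lt).le hk
  have h3 : ρ (σ z * z⁻¹) ^ Nat.card E = 1 := by rw [← map_pow, pow_card_eq_one', map_one]
  have h4 : ρ (σ z * z⁻¹) = 1 := by
    have := pow_gcd_eq_one.2 ⟨h3, h2⟩
    rwa [(hE.pow_right k).gcd_eq_one, pow_one] at this
  calc ρ (σ z) = ρ (σ z * z⁻¹) * ρ z := by rw [← map_mul, inv_mul_cancel_right]
    _ = ρ z := by rw [h4, one_mul]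

section Aut

variable {V : Type*} [CommGroup V]

/-- An automorphism as an endomorphism of the additive group. -/
def toEnd : MulAut V →* AddMonoid.End (Additive V) where
  toFun f := MonoidHom.toAdditive f.toMonoidHom
  map_one' := rfl
  map_mul' _ _ := rfl

theorem toEnd_apply (f : MulAut V) (v : Additive V) :
    toEnd f v = Additive.ofMul (f v.toMul) := rfl

theorem toEnd_injective : Function.Injective (toEnd (V := V)) := fun f g h =>
  MulEquiv.ext fun v => congrArg Additive.toMul (DFunLike.congr_fun h (Additive.ofMul v))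

variable [Finite V] {p q : ℕ}

/-- `V` is generated by the fixed points of `E` and the translates of those of `a`. -/
theorem gen_fix (hp : p.Prime) (hq : q.Prime) (hV : ∀ v : V, v ^ p = 1) {E : Subgroup (MulAut V)}
    [IsMulCommutative E] (hEp : (Nat.card E).Coprime p) {a : MulAut V} (ha : a ^ q = 1)
    (haE : a ∈ normalizer (E : Set (MulAut V))) (hfree : ∀ e ∈ E, Commute a e → e = 1) :
    closure ({v : V | ∀ e ∈ E, e v = v} ∪ {u | ∃ e ∈ E, ∃ v, a v = v ∧ e v = u}) = ⊤ := by
  classical
  have := Fintype.ofFinite E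
  set W := closure ({v : V | ∀ e ∈ E, e v = v} ∪ {u | ∃ e ∈ E, ∃ v, a v = v ∧ e v = u}) with hW
  refine eq_top_iff.2 fun v _ => ?_
  let conj : ℕ → E → E := fun i x => ⟨a ^ i * (x : MulAut V) * (a ^ i)⁻¹,
    (mem_normalizer_iff.1 (pow_mem haE i) _).1 x.2⟩
  have hS : ∀ x : E, (x : MulAut V) (∏ i ∈ range q, (a ^ i) ((x : MulAut V)⁻¹ v)) ∈ W := fun x => by
    refine subset_closure (Or.inr ⟨x, x.2, _, ?_, rfl⟩)
    rw [map_prod]
    obtain ⟨m, hm⟩ : ∃ m, q = m + 1 := ⟨q - 1, (Nat.sub_add_cancel hq.pos).symm⟩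
    subst hm
    rw [prod_range_succ, prod_range_succ' (fun i => (a ^ i) ((x : MulAut V)⁻¹ v))]
    congr 1
    · exact prod_congr rfl fun i _ => by rw [pow_succ', MulAut.mul_apply]
    · rw [← MulAut.mul_apply, ← pow_succ', ha, pow_zero]
  have hmid : ∀ i ∈ range q, i ≠ 0 → (∏ x : E, (x : MulAut V) ((a ^ i) ((x : MulAut V)⁻¹ v))) ∈ W := by
    intro i hi hi0
    refine subset_closure (Or.inl fun e he => ?_)
    let ψ : E → E := fun x => x * (conj i x)⁻¹
    have hψ : Function.Injective ψ := by
      intro x y hxy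
      have e1 : (x * y⁻¹ : E) = conj i (x * y⁻¹) := by
        have e2 : conj i (x * y⁻¹) = conj i x * (conj i y)⁻¹ := Subtype.ext (by
          simp [conj, mul_assoc])
        have h3 : x = y * (conj i y)⁻¹ * conj i x := eq_mul_of_mul_inv_eq hxy
        calc x * y⁻¹ = y * (conj i y)⁻¹ * conj i x * y⁻¹ := by rw [← h3]
          _ = (conj i y)⁻¹ * conj i x := by
            rw [mul_assoc y, mul_comm' y, mul_inv_cancel_right]
          _ = conj i (x * y⁻¹) := by rw [e2, mul_comm']
      have h4 : Commute (a ^ i) ((x * y⁻¹ : E) : MulAut V) := by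
        have h5 := congrArg Subtype.val e1
        exact (eq_mul_inv_iff_mul_eq.1 h5).symm
      obtain ⟨m, -, hm⟩ := Nat.exists_mul_mod_eq_one_of_coprime
        ((hq.coprime_iff_not_dvd.2 fun hd =>
          hi0 (Nat.eq_zero_of_dvd_of_lt hd (mem_range.1 hi))).symm) hq.one_lt
      have ha1 : (a ^ i) ^ m = a := by
        rw [← pow_mul, ← Nat.mod_add_div (i * m) q, hm, pow_add, pow_mul a q, ha, one_pow,
          mul_one, pow_one]
      have h6 := h4.pow_left m
      rw [ha1] at h6
      exact mul_inv_eq_one.1 (Subtype.ext (hfree _ (x * y⁻¹ : E).2 h6))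
    have hb := Finite.injective_iff_bijective.1 hψ
    have key : (∏ x : E, (x : MulAut V) ((a ^ i) ((x : MulAut V)⁻¹ v)))
        = ∏ x : E, (x : MulAut V) ((a ^ i) v) := by
      rw [← hb.prod_comp (fun y : E => (y : MulAut V) ((a ^ i) v))]
      refine prod_congr rfl fun x _ => ?_
      rw [← MulAut.mul_apply, ← MulAut.mul_apply, ← MulAut.mul_apply]
      congr 1
      simp [ψ, conj, mul_assoc]
    rw [key, map_prod, ← (Equiv.mulLeft (⟨e, he⟩ : E)).bijective.prod_comp
      (fun y : E => (y : MulAut V) ((a ^ i) v))]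
    exact prod_congr rfl fun x _ => rfl
  have htot : (∏ x : E, (x : MulAut V) (∏ i ∈ range q, (a ^ i) ((x : MulAut V)⁻¹ v))) ∈ W :=
    prod_mem fun x _ => hS x
  simp only [map_prod] at htot
  rw [prod_comm, ← mul_prod_erase _ _ (mem_range.2 hq.pos)] at htot
  have hrest : (∏ i ∈ (range q).erase 0, ∏ x : E, (x : MulAut V) ((a ^ i) ((x : MulAut V)⁻¹ v))) ∈ W :=
    prod_mem fun i hi => hmid i (mem_erase.1 hi).2 (mem_erase.1 hi).1
  have h0 := (W.mul_mem_cancel_right hrest).1 htot
  simp only [pow_zero, MulAut.one_apply, MulAut.apply_inv_self, prod_const, card_univ,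
    ← Nat.card_eq_fintype_card] at h0
  obtain ⟨j, k, hjk⟩ : ∃ j k : ℤ, (Nat.card E : ℤ) * j + (p : ℤ) * k = 1 :=
    ⟨_, _, by rw [← Nat.gcd_eq_gcd_ab, hEp.gcd_eq_one, Nat.cast_one]⟩
  have : v = (v ^ Nat.card E) ^ j := by
    rw [← zpow_natCast, ← zpow_mul]
    conv_lhs => rw [← zpow_one v, ← hjk, zpow_add, zpow_mul v (p : ℤ), zpow_natCast, hV, one_zpow,
      mul_one]
  rw [this]
  exact zpow_mem h0 j

/-- An abelian group fixing the fixed points of an automorphism free on it is trivial. -/
theorem eq_one_of_fix (hp : p.Prime) (hq : q.Prime) (hV : ∀ v : V, v ^ p = 1)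
    {E : Subgroup (MulAut V)} [IsMulCommutative E] (hEp : (Nat.card E).Coprime p) {a : MulAut V}
    (ha : a ^ q = 1) (haE : a ∈ normalizer (E : Set (MulAut V)))
    (hfree : ∀ e ∈ E, Commute a e → e = 1) (hfix : ∀ e ∈ E, ∀ v, a v = v → e v = v)
    {e : MulAut V} (he : e ∈ E) : e = 1 := by
  refine MulEquiv.ext fun v => ?_
  have hv : v ∈ closure ({v : V | ∀ e ∈ E, e v = v} ∪ {u | ∃ e ∈ E, ∃ v, a v = v ∧ e v = u}) := by
    rw [gen_fix hp hq hV hEp ha haE hfree]; exact mem_top v
  induction hv using closure_induction with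
  | mem u hu =>
    rcases hu with hu | ⟨e', he', w, hw, rfl⟩
    · exact hu e he
    · show e (e' w) = e' w
      rw [hfix e' he' w hw, hfix e he w hw]
  | one => simp
  | mul x y _ _ hx hy => rw [map_mul, hx, hy]; rfl
  | inv x _ hx => rw [map_inv, hx]; rfl

/-- An automorphism commuting with `a` and fixing its fixed points centralises `E`. -/
theorem commute_of_fix (hp : p.Prime) (hq : q.Prime) (hpq : p ≠ q) (hV : ∀ v : V, v ^ p = 1)
    {E : Subgroup (MulAut V)} [IsMulCommutative E] (hEp : (Nat.card E).Coprime p) {a s : MulAut V}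
    (ha : a ^ q = 1) (haE : a ∈ normalizer (E : Set (MulAut V)))
    (hsE : s ∈ normalizer (E : Set (MulAut V))) (hfree : ∀ e ∈ E, Commute a e → e = 1)
    (hsa : Commute s a) {n : ℕ} (hn : n.Coprime q) (hsn : s ^ n = 1)
    (hfix : ∀ v, a v = v → s v = v) {e : MulAut V} (he : e ∈ E) : Commute s e := by
  classical
  let τ : MulAut E := E.normalizerMonoidHom ⟨a, haE⟩
  let σ : MulAut E := E.normalizerMonoidHom ⟨s, hsE⟩
  have hτpow : ∀ (i : ℕ) (z : E), (((τ ^ i) z : E) : MulAut V) = a ^ i * z * (a ^ i)⁻¹ := by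
    intro i z
    show (((E.normalizerMonoidHom ⟨a, haE⟩) ^ i) z : MulAut V) = _
    rw [← map_pow]
    rfl
  have hσz : ∀ z : E, ((σ z : E) : MulAut V) = s * z * s⁻¹ := fun z => rfl
  let ρ₀ : E →* AddMonoid.End (Additive V) := toEnd.comp E.subtype
  let R : Subring (AddMonoid.End (Additive V)) := Subring.closure (Set.range ρ₀)
  have hcomm : ∀ x ∈ Set.range ρ₀, ∀ y ∈ Set.range ρ₀, x * y = y * x := by
    rintro _ ⟨x, rfl⟩ _ ⟨y, rfl⟩
    rw [← map_mul, ← map_mul, mul_comm' x y]
  have : IsMulCommutative R := Subring.isMulCommutative_closure hcomm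
  let _ : CommRing R := { (inferInstance : Ring R) with mul_comm := mul_comm' }
  have : Finite (AddMonoid.End (Additive V)) := Finite.of_injective _ DFunLike.coe_injective
  let ρ : E →* R :=
    { toFun := fun z => ⟨ρ₀ z, Subring.subset_closure ⟨z, rfl⟩⟩
      map_one' := Subtype.ext (map_one ρ₀)
      map_mul' := fun x y => Subtype.ext (map_mul ρ₀ x y) }
  have hpR : (p : R) = 0 := by
    refine Subtype.ext ?_
    rw [SubringClass.coe_natCast, ZeroMemClass.coe_zero]
    refine DFunLike.ext _ _ fun v => ?_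
    rw [AddMonoid.End.natCast_apply]
    exact congrArg Additive.ofMul (hV v.toMul)
  let D : E → (V →* V) := fun z => ∏ i ∈ range q, (((τ ^ i) z : E) : MulAut V).toMonoidHom
  have hD : ∀ (z : E) (v : V), D z v = ∏ i ∈ range q, (a ^ i * (z : MulAut V) * (a ^ i)⁻¹) v := by
    intro z v
    simp only [D, MonoidHom.finsetProd_apply, MulEquiv.coe_toMonoidHom, hτpow]
  have hDfix : ∀ (z : E) (w : V), a w = w → a (D z w) = D z w := by
    intro z w hw
    have hinv : ∀ i : ℕ, (a ^ i)⁻¹ w = w := by
      intro i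
      induction i with
      | zero => simp
      | succ i ih =>
        rw [pow_succ', mul_inv_rev, MulAut.mul_apply]
        conv_lhs => rw [← hw]
        rw [MulAut.inv_apply_self, ih]
    simp only [hD, MulAut.mul_apply, hinv, map_prod]
    obtain ⟨m, hm⟩ : ∃ m, q = m + 1 := ⟨q - 1, (Nat.sub_add_cancel hq.pos).symm⟩
    subst hm
    rw [prod_range_succ, prod_range_succ' (fun i => (a ^ i) ((z : MulAut V) w))]
    congr 1
    · exact prod_congr rfl fun i _ => by rw [pow_succ', MulAut.mul_apply]
    · rw [← MulAut.mul_apply, ← pow_succ', ha, pow_zero]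
  have hDσ : ∀ z : E, D (σ z) = D z := by
    intro z
    refine MonoidHom.ext fun v => ?_
    have hv : v ∈ closure ({v : V | ∀ e ∈ E, e v = v} ∪ {u | ∃ e ∈ E, ∃ v, a v = v ∧ e v = u}) := by
      rw [gen_fix hp hq hV hEp ha haE hfree]; exact mem_top v
    induction hv using closure_induction with
    | mem u hu =>
      simp only [hD]
      rcases hu with hu | ⟨e', he', w, hw, rfl⟩
      · refine prod_congr rfl fun i _ => ?_
        rw [← hτpow, ← hτpow, hu _ ((τ ^ i) (σ z)).2, hu _ ((τ ^ i) z).2]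
      · have hce : ∀ x : E, (x : MulAut V) (e' w) = e' ((x : MulAut V) w) := fun x => by
          rw [← MulAut.mul_apply, ← MulAut.mul_apply]
          exact congrArg (fun f : MulAut V => f w) (congrArg Subtype.val (mul_comm' x ⟨e', he'⟩))
        simp only [← hτpow, hce, ← map_prod]
        congr 1
        simp only [hτpow, hσz]
        have hsw : s⁻¹ w = w := by
          conv_lhs => rw [← hfix w hw]
          exact MulAut.inv_apply_self _ _ _
        have hstep : ∀ i : ℕ, (a ^ i * (s * (z : MulAut V) * s⁻¹) * (a ^ i)⁻¹) w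
            = s ((a ^ i * (z : MulAut V) * (a ^ i)⁻¹) w) := fun i => by
          have hc : Commute s (a ^ i) := hsa.pow_right i
          have e1 : a ^ i * (s * (z : MulAut V) * s⁻¹) * (a ^ i)⁻¹
              = s * (a ^ i * (z : MulAut V) * (a ^ i)⁻¹) * s⁻¹ := by
            rw [← mul_assoc, ← mul_assoc, ← hc.eq]
            simp only [mul_assoc]
            rw [hc.inv_inv.eq]
          rw [e1, MulAut.mul_apply, hsw, MulAut.mul_apply]
        simp only [hstep, ← map_prod]
        rw [← hD]
        exact hfix _ (hDfix z w hw)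
    | one => simp
    | mul x y _ _ hx hy => rw [map_mul, map_mul, hx, hy]
    | inv x _ hx => rw [map_inv, map_inv, hx]
  have hsum : ∀ z : E, ∑ i ∈ range q, ρ ((τ ^ i) (σ z)) = ∑ i ∈ range q, ρ ((τ ^ i) z) := by
    intro z
    refine Subtype.ext ?_
    rw [AddSubmonoidClass.coe_finsetSum, AddSubmonoidClass.coe_finsetSum]
    refine DFunLike.ext _ _ fun v => ?_
    have hto : ∀ y : E, (∑ i ∈ range q, ρ₀ ((τ ^ i) y)) v = Additive.ofMul (D y v.toMul) := by
      intro y
      refine (AddMonoidHom.finsetSum_apply (fun i => ρ₀ ((τ ^ i) y)) _ v).trans ?_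
      simp only [D, MonoidHom.finsetProd_apply, ofMul_prod]
      rfl
    exact (hto _).trans ((by rw [hDσ] : Additive.ofMul (D (σ z) v.toMul) = _).trans (hto z).symm)
  have hτq : τ ^ q = 1 := by
    refine MulEquiv.ext fun z => Subtype.ext ?_
    rw [hτpow, ha]; simp
  have hσn : σ ^ n = 1 := by
    show (E.normalizerMonoidHom ⟨s, hsE⟩) ^ n = 1
    rw [← map_pow, show (⟨s, hsE⟩ : normalizer (E : Set (MulAut V))) ^ n = 1 from Subtype.ext hsn,
      map_one]
  have hστ : Commute σ τ :=
    Commute.map (show Commute (⟨s, hsE⟩ : normalizer (E : Set (MulAut V))) ⟨a, haE⟩ from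
      Subtype.ext hsa) _
  have h := congrArg Subtype.val
    (ring_orbit_eq hp hpR hq hpq hEp ρ hτq hστ hσn hn hsum ⟨e, he⟩)
  exact mul_inv_eq_iff_eq_mul.1 (toEnd_injective h)

end Aut

end CfsgLib.Invol.AbelianFix
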