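import Cfsg.Agent.Lib.Invol.AbelianFix.Frattini
import Cfsg.Agent.Lib.FixedFree.Cores
import Cfsg.Agent.Lib.Solvable.Wielandt

/-!
# Invariant subgroups with two prime divisors in a minimal counterexample

`G` is a minimal nonsolvable group with a coprime action of `A ≅ C_q × C_q` with abelian
centralisers. A maximal invariant `{p, s}`-subgroup has a normal Sylow subgroup which is the
invariant Sylow subgroup of `G`, unless the invariant Sylow `p`- and `s`-subgroups permute.
-/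

set_option autoImplicit false

namespace CfsgLib.Invol.AbelianFix

open Subgroup CfsgLib.FixedFree
open scoped commutatorElement

universe u

variable {X : Type u} [Group X]

/-- A minimal counterexample. -/
structure Minimal (q : ℕ) (A G : Subgroup X) : Prop extends Act q A G where
  ns : ¬ Group.IsSolvable G
  sub : ∀ H : Subgroup X, H ≤ G → H ≠ G → A ≤ normalizer (H : Set X) → Group.IsSolvable H
  norm : ∀ V : Subgroup X, V ≤ G → A ≤ normalizer (V : Set X) → G ≤ normalizer (V : Set X) →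
    V = ⊥ ∨ V = G

/-- `P` is the invariant Sylow `p`-subgroup of `G`, containing every invariant `p`-subgroup. -/
structure IsSyl (p : ℕ) (A G P : Subgroup X) : Prop where
  le : P ≤ G
  inv : A ≤ normalizer (P : Set X)
  pgroup : IsPGroup p P
  card : Nat.card P = p ^ (Nat.card G).factorization p
  max : ∀ Q : Subgroup X, Q ≤ G → A ≤ normalizer (Q : Set X) → IsPGroup p Q → Q ≤ P

/-- All prime divisors of `|K|` are `p` or `s`. -/
def IsTwo (p s : ℕ) (K : Subgroup X) : Prop :=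
  ∀ r : ℕ, r.Prime → r ∣ Nat.card K → r = p ∨ r = s

/-- The invariant Sylow subgroups lie in one `{p, s}`-subgroup. -/
def Perm (p s : ℕ) (A G P S : Subgroup X) : Prop :=
  ∃ K : Subgroup X, K ≤ G ∧ A ≤ normalizer (K : Set X) ∧ IsTwo p s K ∧ P ≤ K ∧ S ≤ K

/-- A maximal invariant `{p, s}`-subgroup. -/
structure MaxTwo (p s : ℕ) (A G K : Subgroup X) : Prop where
  le : K ≤ G
  inv : A ≤ normalizer (K : Set X)
  two : IsTwo p s K
  max : ∀ L : Subgroup X, L ≤ G → A ≤ normalizer (L : Set X) → IsTwo p s L → K ≤ L → L = K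

theorem IsTwo.symm {p s : ℕ} {K : Subgroup X} (h : IsTwo p s K) : IsTwo s p K :=
  fun r hr hd => (h r hr hd).symm

theorem Perm.symm {p s : ℕ} {A G P S : Subgroup X} (h : Perm p s A G P S) : Perm s p A G S P := by
  obtain ⟨K, h1, h2, h3, h4, h5⟩ := h
  exact ⟨K, h1, h2, h3.symm, h5, h4⟩

theorem MaxTwo.symm {p s : ℕ} {A G K : Subgroup X} (h : MaxTwo p s A G K) : MaxTwo s p A G K :=
  ⟨h.le, h.inv, h.two.symm, fun L h1 h2 h3 h4 => h.max L h1 h2 h3.symm h4⟩

/-- `g` normalises the centraliser of what it normalises. -/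
theorem normalizer_le_normalizer_centralizer (U : Subgroup X) :
    normalizer (U : Set X) ≤ normalizer (centralizer (U : Set X) : Set X) := by
  intro g hg
  refine mem_normalizer_iff.2 fun x => ?_
  simp only [mem_centralizer_iff]
  constructor
  · intro hx m hm
    have hm' : g⁻¹ * m * g ∈ U := (mem_normalizer_iff''.1 hg m).1 hm
    calc m * (g * x * g⁻¹) = g * ((g⁻¹ * m * g) * x) * g⁻¹ := by group
      _ = g * (x * (g⁻¹ * m * g)) * g⁻¹ := by rw [hx _ hm']
      _ = g * x * g⁻¹ * m := by group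
  · intro hx m hm
    have hm' : g * m * g⁻¹ ∈ U := (mem_normalizer_iff.1 hg m).1 hm
    calc m * x = g⁻¹ * ((g * m * g⁻¹) * (g * x * g⁻¹)) * g := by group
      _ = g⁻¹ * ((g * x * g⁻¹) * (g * m * g⁻¹)) * g := by rw [hx _ hm']
      _ = x * m := by group

theorem mem_normalizer_inf {H K : Subgroup X} {g : X} (h1 : g ∈ normalizer (H : Set X))
    (h2 : g ∈ normalizer (K : Set X)) : g ∈ normalizer ((H ⊓ K : Subgroup X) : Set X) :=
  mem_normalizer_iff.2 fun x => and_congr (mem_normalizer_iff.1 h1 x) (mem_normalizer_iff.1 h2 x)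

theorem le_normalizer_inf {A H K : Subgroup X} (h1 : A ≤ normalizer (H : Set X))
    (h2 : A ≤ normalizer (K : Set X)) : A ≤ normalizer ((H ⊓ K : Subgroup X) : Set X) :=
  fun _ ha => mem_normalizer_inf (h1 ha) (h2 ha)

theorem mem_normalizer_normalizer {U : Subgroup X} {g : X} (hg : g ∈ normalizer (U : Set X)) :
    g ∈ normalizer (normalizer (U : Set X) : Set X) :=
  le_normalizer hg

theorem le_normalizer_centralizer_singleton {A : Subgroup X} (hA : IsMulCommutative A) {a : X}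
    (ha : a ∈ A) : A ≤ normalizer (centralizer ({a} : Set X) : Set X) := fun b hb => by
  refine le_normalizer ?_
  exact mem_centralizer_singleton_iff.2 (congrArg Subtype.val (mul_comm' (⟨b, hb⟩ : A) ⟨a, ha⟩))

theorem IsTwo.isTwo_sup_of_commute [Finite X] {p s : ℕ} [Fact p.Prime] [Fact s.Prime] {P₀ S₀ : Subgroup X}
    (hP : IsPGroup p P₀) (hS : IsPGroup s S₀) (hPS : S₀ ≤ normalizer (P₀ : Set X)) :
    IsTwo p s (S₀ ⊔ P₀ : Subgroup X) := by
  intro r hr hd
  have h1 := CfsgLib.Solvable.card_mul_set_mul_card_inf S₀ P₀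
  rw [← coe_mul_of_left_le_normalizer_right S₀ P₀ hPS] at h1
  have hd' : r ∣ Nat.card S₀ * Nat.card P₀ := h1 ▸ Dvd.dvd.mul_right hd _
  obtain ⟨i, hi⟩ := IsPGroup.iff_card.1 hP
  obtain ⟨j, hj⟩ := IsPGroup.iff_card.1 hS
  rw [hi, hj] at hd'
  rcases hr.dvd_mul.1 hd' with h | h
  · exact Or.inr ((Nat.prime_dvd_prime_iff_eq hr Fact.out).1 (hr.dvd_of_dvd_pow h))
  · exact Or.inl ((Nat.prime_dvd_prime_iff_eq hr Fact.out).1 (hr.dvd_of_dvd_pow h))

variable [Finite X] {q p s : ℕ} {A G P S K : Subgroup X}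

theorem Act.exists_isSyl (h : Act q A G) (p : ℕ) [Fact p.Prime] : ∃ P, IsSyl p A G P := by
  obtain ⟨P₀, hP₀⟩ := CfsgLib.Coprime.exists_invariant_sylow h.act h.coprime h.solv p
  refine ⟨(P₀ : Subgroup G).map G.subtype, map_subtype_le _, hP₀, P₀.isPGroup'.map _, ?_,
    fun Q hQG hQA hQ => ?_⟩
  · rw [← P₀.card_eq_multiplicity]
    exact (Nat.card_congr ((P₀ : Subgroup G).equivMapOfInjective _ G.subtype_injective).toEquiv).symm
  obtain ⟨P₁, hQP, hP₁⟩ :=
    CfsgLib.Coprime.exists_invariant_sylow_ge h.act h.coprime h.solv hQ hQG hQA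
  obtain ⟨g, hg⟩ := MulAction.exists_smul_eq G P₁ P₀
  have hg' : ((P₁ : Subgroup G).map G.subtype).map (MulAut.conj (g : X)).toMonoidHom
      = (P₀ : Subgroup G).map G.subtype := by
    rw [← hg, ← CfsgLib.Coprime.map_conj_subtype]; rfl
  obtain ⟨c, hc, hc'⟩ := CfsgLib.Coprime.exists_conj_centralizer_of_invariant h.act h.coprime h.solv
    hP₁ hP₀ ⟨g, g.2, hg'⟩
  rw [h.fix, mem_bot] at hc
  rw [hc, map_one] at hc'
  rw [← hc']
  intro x hx
  exact mem_map.2 ⟨x, hQP hx, rfl⟩

theorem IsSyl.inf_isSyl [Fact p.Prime] (hP : IsSyl p A G P) (h : Act q A G) {H : Subgroup X}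
    (hH : H ≤ G) (hA : A ≤ normalizer (H : Set X)) : IsSyl p A H (H ⊓ P) := by
  obtain ⟨Q, hQ⟩ := (h.mono hH hA).exists_isSyl p
  have hle : Q ≤ H ⊓ P := le_inf hQ.le (hP.max Q (hQ.le.trans hH) hQ.inv hQ.pgroup)
  have heq : Q = H ⊓ P := le_antisymm hle
    (hQ.max _ inf_le_left (le_normalizer_inf hA hP.inv) (hP.pgroup.to_le inf_le_right))
  exact heq ▸ hQ

theorem IsSyl.ne_bot [Fact p.Prime] (hP : IsSyl p A G P) (hp : p ∣ Nat.card G) : P ≠ ⊥ := by
  intro e
  have h1 : (Nat.card G).factorization p = 0 := by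
    by_contra hne
    have h2 := hP.card
    rw [e, card_bot] at h2
    exact absurd h2.symm (Nat.one_lt_pow hne (Fact.out : p.Prime).one_lt).ne'
  exact absurd h1 ((Fact.out : p.Prime).factorization_pos_of_dvd Nat.card_pos.ne' hp).ne'

/-- A `{p, s}`-group has order `p`-part times `s`-part. -/
theorem IsTwo.card_eq (hps : p ≠ s) [Fact p.Prime] [Fact s.Prime] (hK : IsTwo p s K) :
    Nat.card K = p ^ (Nat.card K).factorization p * s ^ (Nat.card K).factorization s := by
  have hp : p.Prime := Fact.out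
  have hs : s.Prime := Fact.out
  refine Nat.eq_of_factorization_eq Nat.card_pos.ne'
    (mul_ne_zero (pow_ne_zero _ hp.ne_zero) (pow_ne_zero _ hs.ne_zero)) fun r => ?_
  rw [Nat.factorization_mul (pow_ne_zero _ hp.ne_zero) (pow_ne_zero _ hs.ne_zero),
    Finsupp.add_apply, Nat.factorization_pow, Nat.factorization_pow, Finsupp.smul_apply,
    Finsupp.smul_apply, hp.factorization, hs.factorization]
  by_cases hrp : r = p
  · subst hrp
    rw [Finsupp.single_eq_same, Finsupp.single_eq_of_ne hps]; simp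
  by_cases hrs : r = s
  · subst hrs
    rw [Finsupp.single_eq_same, Finsupp.single_eq_of_ne hrp]; simp
  rw [Finsupp.single_eq_of_ne hrp, Finsupp.single_eq_of_ne hrs]
  simp only [smul_zero, add_zero]
  by_cases hr : r.Prime
  · refine Nat.factorization_eq_zero_of_not_dvd fun hd => ?_
    rcases hK r hr hd with h | h
    · exact hrp h
    · exact hrs h
  · exact Nat.factorization_eq_zero_of_not_prime _ hr

theorem IsTwo.isSolvable (hK : IsTwo p s K) : Group.IsSolvable K := by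
  rcases CfsgLib.Solvable.isSolvable_or_exists_three_primes K with h | ⟨a, b, c, ha, hb, hc, hab, hac, hbc, hda, hdb, hdc⟩
  · exact h
  · rcases hK a ha hda with rfl | rfl <;> rcases hK b hb hdb with rfl | rfl <;>
      rcases hK c hc hdc with rfl | rfl <;> simp_all

theorem exists_maxTwo {U : Subgroup X} (hU : U ≤ G) (hA : A ≤ normalizer (U : Set X))
    (h2 : IsTwo p s U) : ∃ K, MaxTwo p s A G K ∧ U ≤ K := by
  let T : Set (Subgroup X) := {L | L ≤ G ∧ A ≤ normalizer (L : Set X) ∧ IsTwo p s L ∧ U ≤ L}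
  obtain ⟨K, hK, hmax⟩ := Set.Finite.exists_maximal (Set.toFinite T) ⟨U, hU, hA, h2, le_rfl⟩
  exact ⟨K, ⟨hK.1, hK.2.1, hK.2.2.1, fun L h1 h2 h3 h4 =>
    le_antisymm (hmax ⟨h1, h2, h3, hK.2.2.2.trans h4⟩ h4) h4⟩, hK.2.2.2⟩

theorem MaxTwo.self_le_normalizer_pCoreIn (p : ℕ) (K : Subgroup X) :
    normalizer (K : Set X) ≤ normalizer ((pCoreIn p K : Subgroup X) : Set X) := by
  have := CfsgLib.Solvable.pCore_characteristic p K
  exact normalizer_le_map_characteristic _

theorem le_pCoreIn' {N : Subgroup X} (hNK : N ≤ K) (hn : K ≤ normalizer (N : Set X))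
    (hN : IsPGroup p N) : N ≤ pCoreIn p K := fun x hx =>
  ⟨⟨x, hNK hx⟩, CfsgLib.Solvable.le_pCore (normal_subgroupOf_of_le_normalizer hn)
    (hN.of_equiv (subgroupOfEquivOfLe hNK).symm) hx, rfl⟩

theorem commute_of_cores (hps : p ≠ s) [Fact p.Prime] [Fact s.Prime] {u w : X}
    (hu : u ∈ pCoreIn p K) (hw : w ∈ pCoreIn s K) : Commute u w := by
  have hd : Disjoint (pCoreIn p K) (pCoreIn s K) :=
    IsPGroup.disjoint_of_ne p s hps _ _ (pCoreIn_isPGroup p K) (pCoreIn_isPGroup s K)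
  have h1 : u * w * u⁻¹ ∈ pCoreIn s K := (mem_normalizer_iff.1
    (MaxTwo.self_le_normalizer_pCoreIn s K (le_normalizer (pCoreIn_le p K hu))) w).1 hw
  have h2 : w * u⁻¹ * w⁻¹ ∈ pCoreIn p K := (mem_normalizer_iff.1
    (MaxTwo.self_le_normalizer_pCoreIn p K (le_normalizer (pCoreIn_le s K hw))) u⁻¹).1 (inv_mem hu)
  have h3 : u * w * u⁻¹ * w⁻¹ ∈ pCoreIn p K := by
    have := mul_mem hu h2
    simpa [mul_assoc] using this
  have h4 : u * w * u⁻¹ * w⁻¹ = 1 :=
    Subgroup.disjoint_def.1 hd h3 (mul_mem h1 (inv_mem hw))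
  exact commutatorElement_eq_one_iff_commute.1 h4

/-- In a product of commuting `p`- and `s`-elements, the `s`-elements are the `s`-parts. -/
theorem eq_one_of_commute (hps : p ≠ s) [Fact p.Prime] [Fact s.Prime] {P₀ S₀ : Subgroup X}
    (hP : IsPGroup p P₀) (hS : IsPGroup s S₀) {u w y : X} (hu : u ∈ P₀) (hw : w ∈ S₀)
    (hc : Commute u w) (hy : ∃ k : ℕ, y ^ s ^ k = 1) (e : u * w = y) : u = 1 := by
  obtain ⟨i, hi⟩ := hP ⟨u, hu⟩
  obtain ⟨j, hj⟩ := hS ⟨w, hw⟩
  obtain ⟨k, hk⟩ := hy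
  have hi' : u ^ p ^ i = 1 := congrArg Subtype.val hi
  have hj' : w ^ s ^ j = 1 := congrArg Subtype.val hj
  have h1 : u ^ s ^ (j + k) = 1 := by
    have h2 : y ^ s ^ (j + k) = 1 := by rw [add_comm, pow_add, pow_mul, hk, one_pow]
    have h3 : w ^ s ^ (j + k) = 1 := by rw [pow_add, pow_mul, hj', one_pow]
    rwa [← e, hc.mul_pow, h3, mul_one] at h2
  have h4 := pow_gcd_eq_one.2 ⟨hi', h1⟩
  rwa [Nat.Coprime.gcd_eq_one ((((Nat.coprime_primes Fact.out Fact.out).2 hps).pow_left i).pow_right _),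
    pow_one] at h4

theorem commutator_le_cores [Fact p.Prime] [Fact s.Prime] (h : Act q A G) (hK : K ≤ G)
    (hA : A ≤ normalizer (K : Set X)) (h2 : IsTwo p s K) :
    ⁅K, K⁆ ≤ pCoreIn p K ⊔ pCoreIn s K := by
  have hnil := isNilpotent_commutator (h.mono hK hA) h2.isSolvable
  have hle : ⁅K, K⁆ ≤ K := commutator_le.2 fun x hx y hy =>
    mul_mem (mul_mem (mul_mem hx hy) (inv_mem hx)) (inv_mem hy)
  have hn : ((⁅K, K⁆ : Subgroup X).subgroupOf K).Normal :=
    normal_subgroupOf_of_le_normalizer (fun g hg => by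
      rw [mem_normalizer_iff_map_conj_eq, map_commutator,
        mem_normalizer_iff_map_conj_eq.1 (le_normalizer hg)])
  have hF := CfsgLib.Solvable.le_fittingSubgroup hn
    (Group.nilpotent_of_mulEquiv (subgroupOfEquivOfLe hle).symm)
  have hFle : Cfsg.fittingSubgroup K ≤ Cfsg.pCore p K ⊔ Cfsg.pCore s K := by
    rw [CfsgLib.Solvable.fittingSubgroup_eq_iSup_pCore]
    refine iSup_le fun ⟨r, hr⟩ => ?_
    by_cases hrd : r ∣ Nat.card K
    · rcases h2 r hr hrd with e | e
      · subst e; exact le_sup_left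
      · subst e; exact le_sup_right
    · have := Fact.mk hr
      obtain ⟨i, hi⟩ := IsPGroup.iff_card.1 (CfsgLib.Solvable.pCore_isPGroup (G := K) r)
      have hb : Cfsg.pCore r K = ⊥ := by
        refine card_eq_one.1 ?_
        rw [hi]
        rcases Nat.eq_zero_or_pos i with e | e
        · rw [e, pow_zero]
        · exact absurd ((dvd_pow_self r e.ne').trans (hi ▸ card_subgroup_dvd_card _)) hrd
      show Cfsg.pCore r K ≤ _
      rw [hb]; exact bot_le
  intro x hx
  have := mem_map_of_mem K.subtype (hFle (hF (show (⟨x, hle hx⟩ : K) ∈ (⁅K, K⁆ : Subgroup X).subgroupOf K from hx)))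
  rw [Subgroup.map_sup] at this
  exact this

theorem cores_ne_bot [Fact p.Prime] [Fact s.Prime] (h2 : IsTwo p s K) (hK : K ≠ ⊥) :
    pCoreIn p K ≠ ⊥ ∨ pCoreIn s K ≠ ⊥ := by
  obtain ⟨r, M, hr, hMK, hMb, hMp, -, hKM⟩ :=
    CfsgLib.Coprime.exists_invariant_normal_pgroup (A := K) le_normalizer h2.isSolvable hK
  have := Fact.mk hr
  obtain ⟨i, hi⟩ := IsPGroup.iff_card.1 hMp
  have hi0 : i ≠ 0 := fun e => hMb (card_eq_one.1 (by rw [hi, e, pow_zero]))
  rcases h2 r hr ((dvd_pow_self r hi0).trans (hi ▸ card_dvd_of_le hMK)) with rfl | rfl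
  · exact Or.inl fun e => hMb (le_bot_iff.1 ((le_pCoreIn' hMK hKM hMp).trans e.le))
  · exact Or.inr fun e => hMb (le_bot_iff.1 ((le_pCoreIn' hMK hKM hMp).trans e.le))

/-- The normaliser of a nontrivial core of a maximal subgroup adds nothing. -/
theorem MaxTwo.inf_normalizer_le [Fact p.Prime] [Fact s.Prime] (hM : Minimal q A G)
    (hP : IsSyl p A G P) (hps : p ≠ s) (hK : MaxTwo p s A G K) {r : ℕ} [Fact r.Prime]
    (hU : pCoreIn r K ≠ ⊥) : P ⊓ normalizer ((pCoreIn r K : Subgroup X) : Set X) ≤ K := by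
  set U := pCoreIn r K
  have hAU : A ≤ normalizer (U : Set X) := hK.inv.trans (MaxTwo.self_le_normalizer_pCoreIn r K)
  let M := G ⊓ normalizer (U : Set X)
  have hAM : A ≤ normalizer (M : Set X) :=
    le_normalizer_inf hM.act fun a ha => mem_normalizer_normalizer (hAU ha)
  have hKM : K ≤ M := le_inf hK.le (le_normalizer.trans (MaxTwo.self_le_normalizer_pCoreIn r K))
  have hMG : M ≠ G := fun e => by
    rcases hM.norm U ((pCoreIn_le r K).trans hK.le) hAU (e ▸ inf_le_right) with h | h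
    · exact hU h
    · have hnil := (pCoreIn_isPGroup r K).isNilpotent
      refine hM.ns ?_
      rw [← h]
      infer_instance
  have hsolM := hM.sub M inf_le_left hMG hAM
  have hact := hM.toAct.mono (inf_le_left : M ≤ G) hAM
  obtain ⟨H, hH, hAH, hKH⟩ := CfsgLib.Coprime.exists_invariant_hall_ge hact.act hact.coprime hsolM hKM
    hK.inv (π := {l | l = p ∨ l = s}) hK.two
  have hHG : H ≤ G := hH.1.trans inf_le_left
  have hHK := hK.max H hHG hAH (fun l hl hd => hH.2.1 l hl hd) hKH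
  have hne : H.relIndex M ≠ 0 := fun e => by
    have := CfsgLib.Coprime.card_mul_relIndex hH.1
    rw [e, mul_zero] at this
    exact Nat.card_pos.ne' this.symm
  have hfac : (Nat.card M).factorization p = (Nat.card H).factorization p := by
    rw [← CfsgLib.Coprime.card_mul_relIndex hH.1, Nat.factorization_mul Nat.card_pos.ne' hne,
      Finsupp.add_apply,
      Nat.factorization_eq_zero_of_not_dvd (hH.2.2 p (Fact.out : p.Prime) (Or.inl rfl)), add_zero]
  have h1 := (hP.inf_isSyl hM.toAct hHG hAH).card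
  have h3 := (hP.inf_isSyl hM.toAct (inf_le_left : M ≤ G) hAM).card
  have heq : H ⊓ P = M ⊓ P := eq_of_le_of_card_ge (inf_le_inf_right _ hH.1) (by rw [h1, h3, hfac])
  intro x hx
  have : x ∈ H ⊓ P := heq ▸ (⟨⟨hP.le hx.1, hx.2⟩, hx.1⟩ : x ∈ M ⊓ P)
  exact hHK ▸ this.1

/-- `C_{K ∩ S}(O_p(K)) ≤ O_s(K)`. -/
theorem MaxTwo.inf_centralizer_le [Fact p.Prime] [Fact s.Prime] (hM : Minimal q A G)
    (hS : IsSyl s A G S) (hps : p ≠ s) (hK : MaxTwo p s A G K) :
    K ⊓ S ⊓ centralizer ((pCoreIn p K : Subgroup X) : Set X) ≤ pCoreIn s K := by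
  set U := pCoreIn p K
  set J := K ⊓ S ⊓ centralizer (U : Set X) with hJ
  have hWS : pCoreIn s K ≤ S := hS.max _ ((pCoreIn_le s K).trans hK.le)
    (hK.inv.trans (MaxTwo.self_le_normalizer_pCoreIn s K)) (pCoreIn_isPGroup s K)
  set C := (K ⊓ S) ⊔ U with hC
  have hCK : C ≤ K := sup_le inf_le_left (pCoreIn_le p K)
  have hUn : K ⊓ S ≤ normalizer (U : Set X) :=
    inf_le_left.trans (le_normalizer.trans (MaxTwo.self_le_normalizer_pCoreIn p K))
  refine le_pCoreIn' (inf_le_left.trans inf_le_left) ?_ (hS.pgroup.to_le (inf_le_left.trans inf_le_right))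
  intro k hk
  have hle : ∀ k ∈ K, ∀ x ∈ J, k * x * k⁻¹ ∈ J := by
    intro k hk x hx
    have hcomm : ⁅k, x⁆ ∈ C := by
      have := commutator_le_cores hM.toAct hK.le hK.inv hK.two
        (commutator_mem_commutator hk hx.1.1)
      exact sup_le le_sup_right ((le_inf (pCoreIn_le s K) hWS).trans le_sup_left) this
    have hy : k * x * k⁻¹ ∈ C := by
      have := mul_mem hcomm (le_sup_left (b := U) hx.1)
      rwa [commutatorElement_def, inv_mul_cancel_right] at this
    have hcent : k * x * k⁻¹ ∈ centralizer (U : Set X) := (mem_normalizer_iff.1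
      (normalizer_le_normalizer_centralizer U
        (MaxTwo.self_le_normalizer_pCoreIn p K (le_normalizer hk))) x).1 hx.2
    rw [hC, ← SetLike.mem_coe, coe_mul_of_left_le_normalizer_right _ _ hUn] at hy
    obtain ⟨w, hw, u, hu, e⟩ := Set.mem_mul.1 hy
    -- `w` and `u` commute: both act on `U` as inverse inner automorphisms of coprime order
    have hwu : ∀ m ∈ U, (w * u) * m = m * (w * u) := fun m hm => by
      rw [e]; exact (mem_centralizer_iff.1 hcent m hm).symm
    have hwu' : Commute w u := by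
      have h := hwu u hu
      exact mul_right_cancel (b := u) (by rw [h, mul_assoc])
    obtain ⟨j, hj⟩ := hS.pgroup ⟨x, hx.1.2⟩
    have hxo : (k * x * k⁻¹) ^ s ^ j = 1 := by
      rw [conj_pow, show x ^ s ^ j = 1 from congrArg Subtype.val hj, mul_one, mul_inv_cancel]
    have hu1 : u = 1 := eq_one_of_commute hps (pCoreIn_isPGroup p K)
      (hS.pgroup.to_le (inf_le_right : K ⊓ S ≤ S)) hu hw hwu'.symm ⟨j, hxo⟩ (by rw [← hwu'.eq]; exact e)
    rw [hu1, mul_one] at e
    exact ⟨e ▸ hw, hcent⟩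
  refine mem_normalizer_iff.2 fun x => ⟨hle k hk x, fun hx => ?_⟩
  have := hle k⁻¹ (inv_mem hk) _ hx
  simpa [mul_assoc] using this

/-- A maximal subgroup without `p`-core contains `S` as a normal subgroup. -/
theorem MaxTwo.eq_sylow_of_core_eq_bot [Fact p.Prime] [Fact s.Prime] (hM : Minimal q A G)
    (hP : IsSyl p A G P) (hS : IsSyl s A G S) (hps : p ≠ s) (hK : MaxTwo p s A G K)
    (hKb : K ≠ ⊥) (hU : pCoreIn p K = ⊥) : pCoreIn s K = S := by
  set W := pCoreIn s K
  have hWb : W ≠ ⊥ := (cores_ne_bot hK.two hKb).resolve_left (fun h => h hU)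
  have hWS : W ≤ S := hS.max _ ((pCoreIn_le s K).trans hK.le)
    (hK.inv.trans (MaxTwo.self_le_normalizer_pCoreIn s K)) (pCoreIn_isPGroup s K)
  have hcores := commutator_le_cores hM.toAct hK.le hK.inv hK.two
  rw [hU, bot_sup_eq] at hcores
  have hKS : K ⊓ S ≤ W := by
    refine le_pCoreIn' inf_le_left (fun k hk => ?_) (hS.pgroup.to_le inf_le_right)
    have hle : ∀ k ∈ K, ∀ x ∈ K ⊓ S, k * x * k⁻¹ ∈ K ⊓ S := fun k hk x hx => by
      have h1 : ⁅k, x⁆ ∈ W := hcores (commutator_mem_commutator hk hx.1)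
      have := mul_mem (le_inf (pCoreIn_le s K) hWS h1 : ⁅k, x⁆ ∈ K ⊓ S) hx
      rwa [commutatorElement_def, inv_mul_cancel_right] at this
    refine mem_normalizer_iff.2 fun x => ⟨hle k hk x, fun hx => ?_⟩
    have := hle k⁻¹ (inv_mem hk) _ hx
    simpa [mul_assoc] using this
  by_contra hne
  have hlt : W.subgroupOf S < ⊤ := lt_top_iff_ne_top.2 fun e =>
    hne (le_antisymm hWS (subgroupOf_eq_top.1 e))
  have : Group.IsNilpotent S := hS.pgroup.isNilpotent
  obtain ⟨-, y, hyN, hyW⟩ := SetLike.lt_iff_le_and_exists.1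
    (Group.normalizerCondition_of_isNilpotent (W.subgroupOf S) hlt)
  have hyN' : (y : X) ∈ normalizer (W : Set X) := mem_normalizer_iff.2 fun z => by
    constructor
    · intro hz
      exact (mem_normalizer_iff.1 hyN ⟨z, hWS hz⟩).1 hz
    · intro hz
      have hzS : z ∈ S := by
        have := mul_mem (mul_mem (inv_mem y.2) (hWS hz)) y.2
        simpa [mul_assoc] using this
      exact (mem_normalizer_iff.1 hyN ⟨z, hzS⟩).2 hz
  exact hyW (hKS ⟨hK.symm.inf_normalizer_le hM hS hps.symm hWb ⟨y.2, hyN'⟩, y.2⟩)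

/-- A maximal subgroup with both cores contains `S`. -/
theorem MaxTwo.sylow_le_of_cores_ne_bot [Fact p.Prime] [Fact s.Prime] (hM : Minimal q A G)
    (hS : IsSyl s A G S) (hps : p ≠ s) (hK : MaxTwo p s A G K) (hqp : ¬ q ∣ Nat.card K)
    (hU : pCoreIn p K ≠ ⊥) (hW : pCoreIn s K ≠ ⊥) : S ≤ K := by
  set U := pCoreIn p K
  set W := pCoreIn s K
  have hAU : A ≤ normalizer (U : Set X) := hK.inv.trans (MaxTwo.self_le_normalizer_pCoreIn p K)
  have hAW : A ≤ normalizer (W : Set X) := hK.inv.trans (MaxTwo.self_le_normalizer_pCoreIn s K)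
  have hWS : W ≤ S := hS.max _ ((pCoreIn_le s K).trans hK.le) hAW (pCoreIn_isPGroup s K)
  set S₀ := K ⊓ S with hS₀
  have hAS₀ : A ≤ normalizer (S₀ : Set X) := le_normalizer_inf hK.inv hS.inv
  by_contra hnot
  have hlt : S₀.subgroupOf S < ⊤ := lt_top_iff_ne_top.2 fun e =>
    hnot ((subgroupOf_eq_top.1 e).trans inf_le_left)
  have : Group.IsNilpotent S := hS.pgroup.isNilpotent
  obtain ⟨-, y₀, hy₀N, hy₀⟩ := SetLike.lt_iff_le_and_exists.1
    (Group.normalizerCondition_of_isNilpotent (S₀.subgroupOf S) hlt)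
  set N := S ⊓ normalizer (S₀ : Set X) with hN
  have hy₀' : (y₀ : X) ∈ normalizer (S₀ : Set X) := mem_normalizer_iff.2 fun z => by
    constructor
    · intro hz
      exact (mem_normalizer_iff.1 hy₀N ⟨z, hz.2⟩).1 hz
    · intro hz
      have hzS : z ∈ S := by
        have := mul_mem (mul_mem (inv_mem y₀.2) hz.2) y₀.2
        simpa [mul_assoc] using this
      exact (mem_normalizer_iff.1 hy₀N ⟨z, hzS⟩).2 hz
  have hAN : A ≤ normalizer (N : Set X) :=
    le_normalizer_inf hS.inv fun a ha => mem_normalizer_normalizer (hAS₀ ha)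
  have hactN := hM.toAct.mono (inf_le_left.trans hS.le : N ≤ G) hAN
  obtain ⟨a, ha, ha1, y, hy, hya, hyK⟩ : ∃ a ∈ A, a ≠ 1 ∧ ∃ y ∈ N, Commute a y ∧ y ∉ K := by
    by_contra hall
    push Not at hall
    refine hy₀ ?_
    have hle : N ≤ K := hactN.iSup_eq.ge.trans <| iSup_le fun ⟨a, ha, ha1⟩ z hz =>
      hall a ha ha1 z hz.1 (mem_centralizer_singleton_iff.1 hz.2).symm
    exact ⟨hle ⟨y₀.2, hy₀'⟩, y₀.2⟩
  have hyG : y ∈ G := hS.le hy.1
  set X₀ := U ⊓ centralizer ({a} : Set X) with hX₀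
  set D := S₀ ⊓ centralizer (X₀ : Set X) with hD
  have haN : ∀ {H : Subgroup X}, A ≤ normalizer (H : Set X) → a ∈ normalizer (H : Set X) :=
    fun h => h ha
  have haX₀ : a ∈ normalizer (X₀ : Set X) := mem_normalizer_inf (hAU ha)
    (le_normalizer_centralizer_singleton hM.comm ha ha)
  have haD : a ∈ normalizer (D : Set X) :=
    mem_normalizer_inf (hAS₀ ha) (normalizer_le_normalizer_centralizer X₀ haX₀)
  have hyX₀ : y ∈ centralizer (X₀ : Set X) := mem_centralizer_iff.2 fun z hz =>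
    (hM.ab a ha ha1 z ((pCoreIn_le p K).trans hK.le hz.1) y hyG
      (mem_centralizer_singleton_iff.1 hz.2).symm hya).eq
  have hyD : y ∈ normalizer (D : Set X) := mem_normalizer_inf hy.2 (le_normalizer hyX₀)
  have hWD : W ≤ D := fun w hw => ⟨⟨pCoreIn_le s K hw, hWS hw⟩, mem_centralizer_iff.2 fun z hz =>
    (commute_of_cores hps hz.1 hw).eq⟩
  have hDK : D ≤ K := inf_le_left.trans inf_le_left
  have hDS : D ≤ S := inf_le_left.trans inf_le_right
  let B := zpowers a
  have hB : B ≤ normalizer (D : Set X) := zpowers_le.2 haD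
  have hBcop : (Nat.card B).Coprime (Nat.card D) := by
    refine (hM.toAct.coprime_zpowers ha).coprime_dvd_right (card_dvd_of_le (hDS.trans hS.le))
  set D₁ := ⁅D, B⁆ with hD₁
  have hD₁D : D₁ ≤ D := le_normalizer_iff_commutator_le_left.mp hB
  have hfull : ⁅D₁, B⁆ = D₁ :=
    CfsgLib.Coprime.commutator_commutator_eq hB hBcop (Or.inl inferInstance)
  have hD₁U : D₁ ≤ centralizer (U : Set X) := by
    let N₀ : Subgroup X := normalizer (U : Set X)
    have hKN : K ≤ N₀ := le_normalizer.trans (MaxTwo.self_le_normalizer_pCoreIn p K)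
    have hD₁N : D₁ ≤ N₀ := hD₁D.trans (hDK.trans hKN)
    have haN₀ : a ∈ N₀ := hAU ha
    have hUN : U ≤ N₀ := le_normalizer
    have : (U.subgroupOf N₀).Normal := normal_subgroupOf_of_le_normalizer le_rfl
    have hback : ∀ T : Subgroup X, T ≤ N₀ → (T.subgroupOf N₀).map N₀.subtype = T := fun T hT => by
      rw [subgroupOf_map_subtype, inf_eq_left.2 hT]
    have hcard : ∀ T : Subgroup X, T ≤ N₀ → Nat.card (T.subgroupOf N₀) = Nat.card T := fun T hT =>
      Nat.card_congr (subgroupOfEquivOfLe hT).toEquiv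
    have hsp : ∀ T : Subgroup X, T ≤ S → (Nat.card T).Coprime p := fun T hT => by
      obtain ⟨j, hj⟩ := IsPGroup.iff_card.1 (hS.pgroup.to_le hT)
      rw [hj]
      exact ((Nat.coprime_primes Fact.out Fact.out).2 hps.symm).pow_left j
    have key := centralizes_of_fix_top (X := N₀) (p := p) hM.prime (U := U.subgroupOf N₀)
      (E := D₁.subgroupOf N₀) ((pCoreIn_isPGroup p K).of_equiv (subgroupOfEquivOfLe hUN).symm)
      (a := ⟨a, haN₀⟩) (mem_normalizer_iff.2 fun z => mem_normalizer_iff.1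
        (normalizer_commutator_ge_right D B (mem_zpowers a)) (z : X))
      (Subtype.ext (hM.expq a ha))
      (by rw [hcard _ hD₁N]; exact hsp _ (hD₁D.trans hDS))
      (by rw [hcard _ hUN]; exact fun h => hqp (h.trans (card_dvd_of_le (pCoreIn_le p K))))
      (by rw [hcard _ hD₁N]; exact fun h => hqp (h.trans (card_dvd_of_le (hD₁D.trans hDK))))
      (fun x hx z hz u hu => Subtype.ext (by
        have h1 : ⁅(x : X), (z : X)⁆ ∈ pCoreIn p K ⊔ pCoreIn s K :=
          commutator_le_cores hM.toAct hK.le hK.inv hK.two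
            (commutator_mem_commutator (hDK (hD₁D hx)) (hDK (hD₁D hz)))
        have h2 : ⁅(x : X), (z : X)⁆ ∈ W := by
          have h1' : ⁅(x : X), (z : X)⁆ ∈ ((W ⊔ U : Subgroup X) : Set X) := by
            rw [sup_comm] at h1; exact h1
          rw [coe_mul_of_left_le_normalizer_right W U
            ((pCoreIn_le s K).trans hKN)] at h1'
          obtain ⟨w, hw, v, hv, e⟩ := Set.mem_mul.1 h1'
          obtain ⟨j, hj⟩ := hS.pgroup ⟨_, mul_mem (mul_mem (mul_mem (hDS (hD₁D hx)) (hDS (hD₁D hz)))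
            (inv_mem (hDS (hD₁D hx)))) (inv_mem (hDS (hD₁D hz)))⟩
          have hv1 : v = 1 := eq_one_of_commute hps (pCoreIn_isPGroup p K) (pCoreIn_isPGroup s K)
            hv hw (commute_of_cores hps hv hw) ⟨j, congrArg Subtype.val hj⟩
            (by rw [(commute_of_cores hps hv hw).eq]; exact e)
          rw [hv1, mul_one] at e
          exact e ▸ hw
        exact (commute_of_cores hps (show (u : X) ∈ U from hu) h2).symm.eq))
      (map_injective N₀.subtype_injective (by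
        rw [map_commutator, MonoidHom.map_zpowers, hback _ hD₁N]
        exact hfull))
      (fun u hu hau x hx => Subtype.ext (mem_centralizer_iff.1 (hD₁D hx).2 (u : X)
        ⟨hu, mem_centralizer_singleton_iff.2 (congrArg Subtype.val hau.eq).symm⟩).symm)
    intro x hx
    refine mem_centralizer_iff.2 fun u hu => ?_
    exact congrArg Subtype.val (mem_centralizer_iff.1 (key (show (⟨x, hD₁N hx⟩ : N₀) ∈ _ from hx))
      ⟨u, hUN hu⟩ hu)
  have hD₁W : D₁ ≤ W := fun x hx =>
    hK.inf_centralizer_le hM hS hps ⟨⟨hDK (hD₁D hx), hDS (hD₁D hx)⟩, hD₁U hx⟩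
  have hyD₁ : y ∈ normalizer (D₁ : Set X) := by
    rw [mem_normalizer_iff_map_conj_eq, hD₁, map_commutator, mem_normalizer_iff_map_conj_eq.1 hyD]
    congr 1
    rw [MonoidHom.map_zpowers]
    congr 1
    show y * a * y⁻¹ = a
    rw [← hya.eq, mul_inv_cancel_right]
  have hBW : B ≤ normalizer (W : Set X) := zpowers_le.2 (hAW ha)
  have hyW : ∀ z : X, Commute a z → z ∈ G → z ∈ normalizer (D₁ : Set X) → ∀ w ∈ W,
      z * w * z⁻¹ ∈ W := by
    intro z hza hzG hz w hw
    obtain ⟨n, hn, c, hc, rfl⟩ := CfsgLib.Coprime.exists_mul_eq' hBW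
      ((hM.toAct.coprime_zpowers ha).coprime_dvd_right
        (card_dvd_of_le ((pCoreIn_le s K).trans hK.le))) (Or.inl inferInstance) hw
    have hn' : n ∈ D₁ := commutator_mono hWD le_rfl hn
    have hzc : Commute z c := hM.ab a ha ha1 z hzG c ((pCoreIn_le s K).trans hK.le hc.1) hza
      (mem_centralizer_zpowers.1 hc.2)
    have e : z * (n * c) * z⁻¹ = z * n * z⁻¹ * c := by
      rw [← mul_assoc z n c, mul_assoc (z * n) c, ← hzc.inv_left.eq, ← mul_assoc]
    rw [e]
    exact mul_mem (hD₁W ((mem_normalizer_iff.1 hz n).1 hn')) hc.1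
  have hyW' : y ∈ normalizer (W : Set X) := mem_normalizer_iff.2 fun z =>
    ⟨hyW y hya hyG hyD₁ z, fun hz => by
      have := hyW y⁻¹ hya.inv_right (inv_mem hyG) (inv_mem hyD₁) _ hz
      simpa [mul_assoc] using this⟩
  exact hyK (hK.symm.inf_normalizer_le hM hS hps.symm hW ⟨hy.1, hyW'⟩)

/-- **Every invariant `{p, s}`-subgroup normalises `S` or `P`, unless they permute.** -/
theorem le_normalizer_or [Fact p.Prime] [Fact s.Prime] (hM : Minimal q A G) (hP : IsSyl p A G P)
    (hS : IsSyl s A G S) (hps : p ≠ s) (hperm : ¬ Perm p s A G P S) {Y : Subgroup X} (hY : Y ≤ G)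
    (hAY : A ≤ normalizer (Y : Set X)) (hY2 : IsTwo p s Y) :
    Y ≤ normalizer (S : Set X) ∨ Y ≤ normalizer (P : Set X) := by
  obtain ⟨K, hK, hYK⟩ := exists_maxTwo hY hAY hY2
  by_cases hKb : K = ⊥
  · exact Or.inl (hYK.trans (hKb.le.trans bot_le))
  by_cases hU : pCoreIn p K = ⊥
  · refine Or.inl (hYK.trans ?_)
    rw [← hK.eq_sylow_of_core_eq_bot hM hP hS hps hKb hU]
    exact le_normalizer.trans (MaxTwo.self_le_normalizer_pCoreIn s K)
  by_cases hW : pCoreIn s K = ⊥
  · refine Or.inr (hYK.trans ?_)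
    rw [← hK.symm.eq_sylow_of_core_eq_bot hM hS hP hps.symm hKb hW]
    exact le_normalizer.trans (MaxTwo.self_le_normalizer_pCoreIn p K)
  exfalso
  have hqK : ¬ q ∣ Nat.card K := fun h => hM.cop (h.trans (card_dvd_of_le hK.le))
  exact hperm ⟨K, hK.le, hK.inv, hK.two, hK.symm.sylow_le_of_cores_ne_bot hM hP hps.symm hqK hW hU,
    hK.sylow_le_of_cores_ne_bot hM hS hps hqK hU hW⟩

end CfsgLib.Invol.AbelianFix
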